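import Cfsg.Agent.TH.Cl.D4.Tor

/-!
# S3541, `PΩ₈⁺(q)`: local point stabilisers which contain `3⁴ : 3` (helper60)
-/

set_option autoImplicit false

namespace Cfsg.Agent.TH.Cl.D4

open Matrix

theorem c3_ne : ∀ i, i ≠ 3 → c3 i ≠ 3 := by decide

theorem key_rel {R : I8 → I8 → Prop} (h1 : ∀ a b, R a b → R b a) (h2 : ∀ a b c, R a b → R b c → R a c)
    (h3 : ∀ a b, R a b → R a.swap b.swap) (h4 : ∀ a b, R a b → R (sp c3 a) (sp c3 b)) {a b : I8} (hab : R a b)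
    (h : ix a ≠ ix b) : R (.inl 0) (.inl 1) ∧ R (.inl 1) (.inl 2) := by
  have k1 : ∀ a, sp c3 (sp c3 (sp c3 a)) = a := by decide
  have k2 : ∀ a, R a (sp c3 (sp c3 a)) → R a (sp c3 a) := fun a x => by
    have := h4 _ _ x
    rw [k1] at this
    exact h1 _ _ this
  have k3 : ∃ a, ix a ≠ 3 ∧ R a (sp c3 a) := by
    have k4 : ∀ a b : I8, ix a ≠ ix b → (sp c3 b = b ∧ ix a ≠ 3) ∨ (sp c3 a = a ∧ ix b ≠ 3) ∨ (ix a ≠ 3 ∧
        (b = sp c3 a ∨ b = sp c3 (sp c3 a) ∨ b = (sp c3 a).swap ∨ b = (sp c3 (sp c3 a)).swap)) := by decide +kernel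
    have k5 := h4 _ _ hab
    rcases k4 a b h with e | e | ⟨e, rfl | rfl | rfl | rfl⟩
    · rw [e.1] at k5
      exact ⟨a, e.2, h2 _ _ _ hab (h1 _ _ k5)⟩
    · rw [e.1] at k5
      exact ⟨b, e.2, h2 _ _ _ (h1 _ _ hab) k5⟩
    · exact ⟨a, e, hab⟩
    · exact ⟨a, e, k2 a hab⟩
    · have := h3 _ _ k5
      rw [sp_swap, Sum.swap_swap] at this
      exact ⟨a, e, k2 a (h2 _ _ _ hab this)⟩
    · have := h3 _ _ (h4 _ _ k5)
      rw [sp_swap, sp_swap, Sum.swap_swap, k1] at this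
      exact ⟨a, e, h2 _ _ _ hab this⟩
  obtain ⟨a, e, x⟩ := k3
  have k6 : ∃ i, i ≠ 3 ∧ R (.inl i) (sp c3 (.inl i)) := by
    rcases a with i | i
    · exact ⟨i, e, x⟩
    · exact ⟨i, e, by have := h3 _ _ x; rwa [← sp_swap] at this⟩
  obtain ⟨i, e, x⟩ := k6
  have y := h4 _ _ x
  have z := h4 _ _ y
  fin_cases i
  · exact ⟨x, y⟩
  · exact ⟨z, x⟩
  · exact ⟨y, z⟩
  · exact absurd rfl e

theorem conj_sub_one_pow {F : Type} [Field F] {Ω : Type} [Group Ω] (ρ : Ω →* M8 F) (b u : Ω) {k : ℕ}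
    (h : (ρ u - 1) ^ k = 0) : (ρ (b * u * b⁻¹) - 1) ^ k = 0 := by
  have h1 : ∀ k, (ρ (b * u * b⁻¹) - 1) ^ k * ρ b = ρ b * (ρ u - 1) ^ k := fun k =>
    (SemiconjBy.pow_right (show ρ b * (ρ u - 1) = (ρ (b * u * b⁻¹) - 1) * ρ b by
      rw [sub_mul, ← map_mul, inv_mul_cancel_right, map_mul, mul_sub, mul_one, one_mul]) k).symm
  have h2 : ρ b * ρ b⁻¹ = 1 := by rw [← map_mul, mul_inv_cancel, map_one]
  calc _ = (ρ (b * u * b⁻¹) - 1) ^ k * ρ b * ρ b⁻¹ := by rw [mul_assoc _ (ρ b), h2, mul_one]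
    _ = 0 := by rw [h1, h, mul_zero, zero_mul]

namespace Dat

variable {G : Type} [Group G] {T : Subgroup G} {Ω F : Type} [Group Ω] [Field F] {D : Dat T Ω F}
  {H E : Subgroup G} {m p r : ℕ} [Finite G] [CharP F p] [PerfectField F]

/-- **the local case** -/
theorem false_of_loc (c : LieCtx T H m p) (hA : ∀ c, D.y c ∈ H) {w : Ω} (hw : D.ρ w = pm F (sp c3)) (hwH : D.π w ∈ H)
    (h : DS.Loc T H E r) (hr : r ≠ p) : False := by
  have := Fact.mk c.prime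
  have hn : ∀ a ∈ H, ∀ e ∈ E, a * e * a⁻¹ ∈ E := fun a ha e he =>
    (Subgroup.mem_normalizer_iff.1 (h.norm.ge ha) e).1 he
  have hE : ∀ e, D.π e ∈ E → Dg (D.ρ e) := fun e he =>
    D.dg_of_ab (p := p) h.prime hr h.pow h.comm (fun c => hn _ (hA c)) he
  let R : I8 → I8 → Prop := fun a b => ∀ e, D.π e ∈ E → D.ρ e a a = D.ρ e b b
  let C : Ω → Prop := fun g => ∀ e, D.π e ∈ E → g * e = e * g
  have hC : ∀ g, C g ↔ ∀ a b, D.ρ g a b ≠ 0 → R a b := fun g =>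
    ⟨fun x a b y e he => (hE e he).comm_iff.1 (by rw [← map_mul, ← map_mul, x e he]) a b y,
      fun x e he => D.inj (by rw [map_mul, map_mul]; exact (hE e he).comm_iff.2 fun a b y => x a b y e he)⟩
  have r1 : ∀ a b, R a b → R b a := fun a b x e he => (x e he).symm
  have r2 : ∀ a b c, R a b → R b c → R a c := fun a b c x y e he => (x e he).trans (y e he)
  have r3 : ∀ a b, R a b → R a.swap b.swap := fun a b x e he => by
    have a1 := (hE e he).mul_swap (D.iso e) a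
    have a2 := (hE e he).mul_swap (D.iso e) b
    rw [← x e he] at a2
    exact mul_left_cancel₀ (left_ne_zero_of_mul_eq_one a1) (a1.trans a2.symm)
  have r4 : ∀ a b, R a b → R (sp c3 a) (sp c3 b) := fun a b x e he => by
    have a1 : ∀ a, D.ρ e (sp c3 a) (sp c3 a) = D.ρ (w⁻¹ * e * w) a a := fun a => by
      rw [← mul_pm (D.ρ e), ← pm_mul (D.ρ (w⁻¹ * e * w)) (sp c3), ← hw, ← map_mul, ← map_mul]
      congr 1
      group
    rw [a1, a1]
    refine x _ ?_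
    have := hn _ (inv_mem hwH) _ he
    rwa [inv_inv, ← map_inv, ← map_mul, ← map_mul] at this
  -- conjugates of the elements of order three of the centraliser
  have hconj : ∀ a ∈ H, ∀ g, g ^ 3 = 1 → C g → ∃ g', g' ^ 3 = 1 ∧ C g' ∧ D.π g' = a * D.π g * a⁻¹ := by
    intro a ha g h3 hg
    obtain ⟨g', e1, e2⟩ := D.lift3 (c.as.normal.conj_mem _ (D.mem g) a) (by
      rw [conj_pow, ← map_pow, h3, map_one, mul_one, mul_inv_cancel])
    refine ⟨g', e2, fun e he => D.comm3 e2 ?_, e1⟩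
    obtain ⟨e', he'⟩ := D.surj _ (h.le_S (hn _ (inv_mem ha) _ he))
    have a1 := congrArg D.π (hg e' (he' ▸ hn _ (inv_mem ha) _ he))
    rw [map_mul, map_mul, he'] at a1
    rw [e1]
    calc _ = a * (D.π g * (a⁻¹ * D.π e * a⁻¹⁻¹)) * a⁻¹ := by group
      _ = _ := by rw [a1]; group
  have hxC : ∀ c, C (D.x c) := fun c e he => (D.comm_of_dg (hE e he) c).symm
  have hpl : ∀ i g, g ^ 3 = 1 → Pl i (D.ρ g) → g * D.x (e3 i) = D.x (e3 i) * g := fun i g h3 hP => D.inj (by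
    rw [map_mul, map_mul, ρ_x]
    exact hP.of_cube D.om (D.iso g) (by rw [← map_pow, h3, map_one]))
  have hne : ∀ {Z : Subgroup G} {c : W3}, c ≠ 0 → D.y c ∈ Z → Z ≠ ⊥ := fun {Z c} hc h1 h2 => by
    rw [h2, Subgroup.mem_bot, ← D.y_zero] at h1
    exact hc (D.y_inj h1)
  by_cases htor : ∀ a b, R a b → ix a = ix b
  · refine false_of_tor (D := D) c (c.half.normalizer_eq (hne (c := e3 0) (by decide) (D.y_mem_A _))
      (by rintro _ ⟨c, rfl⟩; exact hA c) (le_normalizer_of_conj ?_))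
    rintro a ha _ ⟨c, rfl⟩
    obtain ⟨g, h3, hg, e⟩ := hconj a ha _ (D.x_cube c) (hxC c)
    obtain ⟨d, rfl⟩ := D.exists_x_eq (D.dg_of_comm fun i => hpl i g h3 fun a b y => by
      rw [htor a b ((hC g).1 hg a b y)]) h3
    exact ⟨d, e.symm⟩
  push Not at htor
  obtain ⟨a₀, b₀, h0, h0'⟩ := htor
  obtain ⟨q1, q2⟩ := key_rel r1 r2 r3 r4 h0 h0'
  have q3 : ∀ i, i ≠ 3 → R (.inl 0) (.inl i) := fun i hi => by
    fin_cases i
    exacts [fun _ _ => rfl, q1, r2 _ _ _ q1 q2, absurd rfl hi]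
  have q4 : ∀ i j, i ≠ 3 → j ≠ 3 → R (.inl i) (.inl j) := fun i j hi hj => r2 _ _ _ (r1 _ _ (q3 i hi)) (q3 j hj)
  -- the normal subgroup `B`
  let B' : Subgroup Ω := Subgroup.closure {g | g ^ 3 = 1 ∧ C g}
  let B : Subgroup G := B'.map D.π
  have b1 : ∀ g ∈ B', C g := fun g hg e he => by
    have : B' ≤ Subgroup.centralizer {e} := (Subgroup.closure_le _).2 fun g hg =>
      Subgroup.mem_centralizer_singleton_iff.2 (hg.2 e he)
    exact Subgroup.mem_centralizer_singleton_iff.1 (this hg)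
  have b2 : B ≤ H := by
    rintro _ ⟨g, hg, rfl⟩
    rw [← h.norm]
    refine Subgroup.centralizer_le_normalizer _ fun e he => ?_
    obtain ⟨e, rfl⟩ := D.surj e (h.le_S he)
    rw [← map_mul, ← map_mul, b1 g hg e he]
  have b3 : ∀ a ∈ H, ∀ t ∈ B, a * t * a⁻¹ ∈ B := by
    rintro a ha _ ⟨g, hg, rfl⟩
    have : B' ≤ B.comap ((MulAut.conj a).toMonoidHom.comp D.π) := (Subgroup.closure_le _).2 fun g hg => by
      obtain ⟨g', e1, e2, e3⟩ := hconj a ha g hg.1 hg.2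
      exact ⟨g', Subgroup.subset_closure ⟨e1, e2⟩, e3⟩
    exact this hg
  have b4 : ∀ c, D.x c ∈ B' := fun c => Subgroup.subset_closure ⟨D.x_cube c, hxC c⟩
  have b5 : w ∈ B' := Subgroup.subset_closure ⟨D.inj (by
      rw [map_pow, hw, pow_three, pm_mul_pm, pm_mul_pm, sp_mul, sp_mul, show c3 * (c3 * c3) = 1 by decide, sp_one,
        pm_one, map_one]), (hC w).2 fun a b y => by
    rw [hw] at y
    rw [pm_ne y]
    rcases b with i | i <;> by_cases e : i = 3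
    · subst e; exact fun _ _ => rfl
    · exact q4 _ _ (c3_ne i e) e
    · subst e; exact fun _ _ => rfl
    · exact r3 (.inl _) (.inl _) (q4 _ _ (c3_ne i e) e)⟩
  obtain ⟨α, β, v, hαβ, hv, hv3⟩ := D.exists_u
  have hu : D.ρ (D.x (-e3 2) * v) = uU D.ω α β := by rw [map_mul, ρ_x, hv, uU]
  have b6 : D.x (-e3 2) * v ∈ B' := mul_mem (b4 _) (Subgroup.subset_closure ⟨hv3, (hC v).2 fun a b y => by
    rw [hv] at y
    rcases uY_ne _ _ _ y with rfl | ⟨i, j, hi, hj, rfl, rfl⟩ | ⟨i, j, hi, hj, rfl, rfl⟩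
    exacts [fun _ _ => rfl, q4 i j hi hj, r3 (.inl i) (.inl j) (q4 i j hi hj)]⟩)
  generalize D.x (-e3 2) * v = u at hu b6
  have hu3 : (D.ρ u - 1) ^ 3 = 0 := hu ▸ uU_cube D.om hαβ
  -- the elements of order three of the centre of `B`
  let Z : Subgroup G :=
    { carrier := {t | t ∈ B ∧ t ^ 3 = 1 ∧ ∀ s ∈ B, t * s = s * t}
      one_mem' := ⟨one_mem _, one_pow _, fun s _ => by rw [one_mul, mul_one]⟩
      mul_mem' := fun {a b} ha hb => ⟨mul_mem ha.1 hb.1, by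
        rw [Commute.mul_pow (ha.2.2 b hb.1), ha.2.1, hb.2.1, mul_one], fun s hs => by
        rw [mul_assoc, hb.2.2 s hs, ← mul_assoc, ha.2.2 s hs, mul_assoc]⟩
      inv_mem' := fun {a} ha => ⟨inv_mem ha.1, by rw [inv_pow, ha.2.1, inv_one], fun s hs =>
        (Commute.inv_left (ha.2.2 s hs)).eq⟩ }
  have z1 : ∀ a ∈ H, ∀ t ∈ Z, a * t * a⁻¹ ∈ Z := fun a ha t ht =>
    ⟨b3 a ha t ht.1, by rw [conj_pow, ht.2.1, mul_one, mul_inv_cancel], fun s hs => by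
      have := ht.2.2 _ (b3 _ (inv_mem ha) s hs)
      calc _ = a * (t * (a⁻¹ * s * a⁻¹⁻¹)) * a⁻¹ := by group
        _ = _ := by rw [this]; group⟩
  have z2 : ∀ t ∈ Z, ∃ s s' : ZMod 3, t = D.y ![s, s, s, s'] := fun t ht => by
    obtain ⟨d, rfl⟩ := D.mem_A (by obtain ⟨g, -, rfl⟩ := ht.1; exact D.mem g) ht.2.1
      fun c => ht.2.2 _ ⟨_, b4 c, rfl⟩
    have a1 := D.comm_iff.1 (D.comm3 (D.x_cube d) (ht.2.2 _ ⟨w, b5, rfl⟩)).symm
    have a2 : ∀ b, wt (sp c3 b) d = wt b d := fun b => a1 _ b (by rw [hw, pm, of_apply, if_pos rfl]; exact one_ne_zero)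
    have a3 : d 1 = d 0 := a2 (.inl 0)
    have a4 : d 2 = d 1 := a2 (.inl 1)
    refine ⟨d 0, d 3, congrArg D.y (funext fun i => ?_)⟩
    fin_cases i
    exacts [rfl, a3, a4.trans a3, rfl]
  have z3' : ∀ d, (∀ g, g ^ 3 = 1 → C g → g * D.x d = D.x d * g) → D.y d ∈ Z := fun d hd =>
    ⟨⟨_, b4 d, rfl⟩, D.y_cube d, by
      rintro _ ⟨g, hg, rfl⟩
      have : B' ≤ Subgroup.centralizer {D.x d} := (Subgroup.closure_le _).2 fun g hg =>
        Subgroup.mem_centralizer_singleton_iff.2 (hd g hg.1 hg.2)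
      rw [y, ← map_mul, ← map_mul, Subgroup.mem_centralizer_singleton_iff.1 (this hg)]⟩
  have z4 : ∀ d, D.y d ∈ Z → ∀ g ∈ B', g * D.x d = D.x d * g := fun d hd g hg =>
    (D.comm3 (D.x_cube d) (hd.2.2 _ ⟨g, hg, rfl⟩)).symm
  have z5 : ∀ g₀, ∃ b ∈ B', ∀ z ∈ cj g₀ Z, D.π (b * u * b⁻¹) * z * (D.π (b * u * b⁻¹))⁻¹ ∈ cj g₀ Z := fun g₀ => by
    obtain ⟨_, ⟨b, hb, rfl⟩, e⟩ := c.half.uni c.not_dvd_d b2 b3 le_rfl (fun a ha => b3 a (b2 ha))
      (Gen.isPGroup_zpowers (u := D.π u) (k := 3) (by rw [← map_pow, D.pow_eq_one_of_nil hu3, map_one]))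
      (Subgroup.zpowers_le.2 ⟨u, b6, rfl⟩) g₀
    refine ⟨b, hb, fun z hz => conj_mem_cj_of z1 (e ?_) hz⟩
    rw [map_mul, map_mul, map_inv]
    exact conj_mem_cj _ (Subgroup.mem_zpowers _)
  by_cases hz : D.y (e3 3) ∈ Z
  · obtain ⟨γ, hγ⟩ := D.exists_sp (Equiv.swap 1 2 * Equiv.swap 2 3)
    obtain ⟨b, hb, e⟩ := z5 (D.π γ)
    have a1 : D.π γ * D.y (e3 3) * (D.π γ)⁻¹ = D.y (e3 2) := (D.conj_sp hγ _).trans (congrArg D.y (by decide))
    obtain ⟨t, ht, a2⟩ := e _ (a1 ▸ conj_mem_cj _ hz)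
    obtain ⟨s, s', rfl⟩ := z2 t ht
    have a3 := (D.conj_sp hγ _).symm.trans a2
    obtain ⟨i, s'', hs, a4⟩ := D.y_X.1 (a3 ▸ D.inv _ (D.le (D.mem _)) _ (D.y_e3 2))
    rw [a4] at a3
    obtain rfl : i = 2 := by
      clear a3 a2 ht
      revert i s s' s''
      decide +kernel
    have a5 := congrArg D.ρ (mul_inv_eq_iff_eq_mul.1 (D.of_conj_y a3.symm))
    rw [map_mul, map_mul _ (D.x _), ρ_x, ρ_x] at a5
    obtain ⟨Y, y1, y2, y3⟩ := D.om.exists_fix (D.iso _) hs a5 (conj_sub_one_pow D.ρ b u hu3)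
    have a6 := uU_fix D.om hαβ (Y := D.ρ b⁻¹ *ᵥ Y) (by
      rw [← hu, mulVec_mulVec, ← map_mul]
      nth_rewrite 2 [← y1]
      rw [mulVec_mulVec, ← map_mul]
      congr 2
      group)
    rw [D.iso] at a6
    refine left_ne_zero_of_mul (a6 ▸ y2) ?_
    rw [mulVec, dotProduct]
    refine Finset.sum_eq_zero fun d _ => ?_
    by_contra h1
    rcases wt_e3_cases (D.comm_iff.1 (z4 _ hz _ (inv_mem hb)) _ _ (left_ne_zero_of_mul h1)) with rfl | e'
    · exact absurd (y3 _ (right_ne_zero_of_mul h1)) (by decide)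
    · exact e'.1 rfl
  obtain ⟨σ, hσ, hj⟩ : ∃ σ : ZMod 3, σ ≠ 0 ∧ D.y (jj σ) ∈ Z := by
    obtain ⟨a, b, ha, hb, hab⟩ : ∃ a b, ix a = 3 ∧ ix b ≠ 3 ∧ R a b := by
      by_contra h1
      push Not at h1
      refine hz (z3' _ fun g h3 hg => hpl 3 g h3 fun a b y => ?_)
      have := (hC g).1 hg a b y
      exact ⟨fun e => not_not.1 fun e' => h1 a b e e' this, fun e => not_not.1 fun e' => h1 b a e e' (r1 _ _ this)⟩
    obtain ⟨σ, hσ, a1⟩ : ∃ σ : ZMod 3, σ ≠ 0 ∧ ∀ d, wt d (jj σ) = 1 → R (.inl 0) d := by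
      obtain ⟨a, ha, a1⟩ : ∃ a, ix a = 3 ∧ R (.inl 0) a := by
        rcases b with i | i
        · exact ⟨a, ha, r2 _ _ _ (q3 i hb) (r1 _ _ hab)⟩
        · exact ⟨a.swap, (ix_swap a).trans ha, r2 _ _ _ (q3 i hb) (r1 _ _ (r3 _ _ hab))⟩
      have a2 : ∀ a : I8, ix a = 3 → ∃ σ : ZMod 3, σ ≠ 0 ∧ ∀ d, wt d (jj σ) = 1 → d = a ∨ ∃ i, i ≠ 3 ∧ d = .inl i := by
        decide +kernel
      obtain ⟨σ, hσ, a3⟩ := a2 a ha
      refine ⟨σ, hσ, fun d hd => ?_⟩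
      rcases a3 d hd with rfl | ⟨i, hi, rfl⟩
      exacts [a1, q3 i hi]
    have a2 : ∀ d, wt d (jj σ) = 1 ∨ wt d.swap (jj σ) = 1 := by
      clear a1
      revert σ
      decide
    have a3 : ¬ R (.inl 0) (.inr 0) := fun x => by
      have a4 : ∀ d, R (.inl 0) d := fun d => (a2 d).elim (a1 d) fun y =>
        r2 _ _ _ x (by have := r3 _ _ (a1 _ y); rwa [Sum.swap_swap] at this)
      refine h.ne_bot (eq_bot_iff.2 fun e he => ?_)
      obtain ⟨e, rfl⟩ := D.surj e (h.le_S he)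
      have a5 := (hE e he).mul_swap (D.iso e) (.inl 0)
      rw [← a4 (Sum.inl 0).swap e he, mul_self_eq_one_iff] at a5
      refine (D.ker e).2 (a5.imp (fun y => ?_) fun y => ?_)
      · rw [(hE e he).eq, ← diagonal_one]
        exact congrArg diagonal (funext fun d => (a4 d e he).symm.trans y)
      · rw [(hE e he).eq, ← diagonal_one, diagonal_neg]
        exact congrArg diagonal (funext fun d => (a4 d e he).symm.trans y)
    have a4 : ∀ d e, R d e → wt d (jj σ) = 1 → wt e (jj σ) = 1 := fun d e x y => (a2 e).resolve_right fun z =>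
      a3 (r2 _ _ _ (r2 _ _ _ (a1 d y) x) (by have := r3 _ _ (a1 _ z); rw [Sum.swap_swap] at this; exact r1 _ _ this))
    refine ⟨σ, hσ, z3' _ fun g _ hg => D.comm_iff.2 fun d e y => ?_⟩
    have a5 := (hC g).1 hg d e y
    rcases a2 d with z | z
    · rw [z, a4 d e a5 z]
    · have := a4 _ _ (r3 _ _ a5) z
      rw [wt_swap] at z this
      exact neg_injective (z.trans this.symm)
  obtain ⟨γ, hγ⟩ := D.exists_pm iso_t4 t4_swap
  obtain ⟨b, hb, e⟩ := z5 (D.π γ)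
  have a1 : ∀ s : ZMod 3, D.π γ * D.y (s • jj σ) * (D.π γ)⁻¹ = D.y (s • jk σ) := fun s =>
    D.conj_y (D.conj_pm hγ (by clear hj hσ; revert s σ; decide +kernel))
  obtain ⟨t, ht, a2⟩ := e _ (by have := a1 1; rw [one_smul, one_smul] at this; exact this ▸ conj_mem_cj _ hj)
  obtain ⟨s, s', rfl⟩ := z2 t ht
  have a3 : ![s, s, s, s'] = s • jj σ := by
    by_contra a3
    have a4 := pow_mem (mul_mem ht (inv_mem (pow_mem hj s.val))) (s' - s * σ).val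
    rw [← y_smul, ← y_neg, ← y_add, ← y_smul] at a4
    refine hz (cast (congrArg (fun d => D.y d ∈ Z) ?_) a4)
    clear a4 a2 ht hj a1 hσ
    revert s s' σ
    decide +kernel
  rw [a3] at a2
  have a4 := (a1 s).symm.trans a2
  have hs : s ≠ 0 := by
    rintro rfl
    rw [zero_smul, y_zero, eq_comm, mul_inv_eq_one, mul_eq_left, ← D.y_zero] at a4
    exact one_ne_zero (congrFun (D.y_inj a4) 0)
  have a5 := congrArg D.ρ (mul_inv_eq_iff_eq_mul.1 (D.of_conj_y a4.symm))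
  rw [map_mul, map_mul _ (D.x _), ρ_x, ρ_x] at a5
  have a6 := congrArg D.ρ (z4 _ hj _ (mul_mem (mul_mem hb b6) (inv_mem hb)))
  rw [map_mul, map_mul _ (D.x _), ρ_x] at a6
  have a7 := conj_sub_one_pow D.ρ b⁻¹ _ (D.om.sq_eq_zero hσ hs a6 a5 (conj_sub_one_pow D.ρ b u hu3))
  rw [show b⁻¹ * (b * u * b⁻¹) * b⁻¹⁻¹ = u by group, hu] at a7
  exact uU_sq D.om hαβ a7

end Dat

end Cfsg.Agent.TH.Cl.D4
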