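import Cfsg.Agent.TH.Cl.D4.Lem
import Cfsg.Agent.TH.Tri

/-!
# S3541, `PΩ₈⁺(q)`: the matrix model (helper60)

`Dat T Ω F`: the socle `T` is the image of a group `Ω` of isometries over a field `F` with a primitive cube root of unity.
`Dat.dg_of_ab`: an elementary abelian group normalised by `3⁴` is centralised by it.
-/

set_option autoImplicit false

namespace Cfsg.Agent.TH.Cl.D4

open Matrix

/-- the model -/
structure Dat {G : Type} [Group G] (T : Subgroup G) (Ω F : Type) [Group Ω] [Field F] where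
  ω : F
  R : Subring (F × F)
  ρ : Ω →* M8 F
  π : Ω →* G
  G₀ : Subgroup G
  X : Set G
  om : Om ω
  rw : Rw ω R
  neg : ∃ α β, (α, β) ∈ R ∧ α * β = -1
  inj : Function.Injective ρ
  iso : ∀ g, Iso (ρ g)
  mem : ∀ g, π g ∈ T
  surj : ∀ t ∈ T, ∃ g, π g = t
  ker : ∀ g, π g = 1 ↔ ρ g = 1 ∨ ρ g = -1
  ex : ∀ N, Iso N → Rl R N → ∃ g, ρ g = N * N
  le : T ≤ G₀
  idx : G₀.index ≤ 3
  inv : ∀ g ∈ G₀, ∀ t ∈ X, g * t * g⁻¹ ∈ X
  xx : ∀ g c, ρ g = dg ω c → (π g ∈ X ↔ ∃ i, ∃ s : ZMod 3, s ≠ 0 ∧ c = s • e3 i)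

namespace Dat

variable {G : Type} [Group G] {T : Subgroup G} {Ω F : Type} [Group Ω] [Field F] (D : Dat T Ω F)

theorem ex3 {M : M8 F} (h1 : Iso M) (h2 : Rl D.R M) (h3 : M ^ 3 = 1) : ∃ g, D.ρ g = M := by
  obtain ⟨g, hg⟩ := D.ex _ (h1.mul h1) (h2.mul h2)
  exact ⟨g, by rw [hg, ← mul_assoc, ← pow_two, ← pow_succ, h3, one_mul]⟩

theorem three_smul (c : W3) : c + (c + c) = 0 := by
  funext j
  simp only [Pi.add_apply, Pi.zero_apply]
  generalize c j = k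
  revert k
  decide

theorem exists_x (c : W3) : ∃ g, D.ρ g = dg D.ω c :=
  D.ex3 (D.om.iso_dg c) (D.rw.dg c) (by rw [pow_three, D.om.dg_mul, D.om.dg_mul, three_smul, dg_zero])

/-- the group `3⁴` -/
noncomputable def x (c : W3) : Ω := (D.exists_x c).choose

theorem ρ_x (c : W3) : D.ρ (D.x c) = dg D.ω c := (D.exists_x c).choose_spec

theorem x_add (c d : W3) : D.x (c + d) = D.x c * D.x d := D.inj (by rw [map_mul, ρ_x, ρ_x, ρ_x, D.om.dg_mul])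

theorem x_zero : D.x 0 = 1 := D.inj (by rw [ρ_x, dg_zero, map_one])

theorem x_neg (c : W3) : D.x (-c) = (D.x c)⁻¹ := eq_inv_of_mul_eq_one_left (by rw [← x_add, neg_add_cancel, x_zero])

theorem x_cube (c : W3) : D.x c ^ 3 = 1 := by rw [pow_three, ← x_add, ← x_add, three_smul, x_zero]

theorem x_comm (c d : W3) : D.x c * D.x d = D.x d * D.x c := by rw [← x_add, ← x_add, add_comm]

theorem ρ_inv (g : Ω) : D.ρ g⁻¹ = adj (D.ρ g) := by
  rw [← one_mul (D.ρ g⁻¹), ← (D.iso g).adj_mul, mul_assoc, ← map_mul, mul_inv_cancel, map_one, mul_one]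

theorem central {z : Ω} (h : D.π z = 1) (g : Ω) : z * g = g * z := D.inj (by
  rw [map_mul, map_mul]
  rcases (D.ker z).1 h with e | e <;> simp [e])

theorem ker_sq {z : Ω} (h : D.π z = 1) : z ^ 2 = 1 := D.inj (by
  rw [map_pow, map_one]
  rcases (D.ker z).1 h with e | e <;> simp [e])

theorem eq_of_cube {g h : Ω} (e : D.π g = D.π h) (hg : g ^ 3 = 1) (hh : h ^ 3 = 1) : g = h := by
  have h1 : D.π (g * h⁻¹) = 1 := by rw [map_mul, map_inv, e, mul_inv_cancel]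
  have h2 : (g * h⁻¹ * h) ^ 3 = (g * h⁻¹) ^ 3 * h ^ 3 := Commute.mul_pow (D.central h1 h) 3
  rw [inv_mul_cancel_right, hg, hh, mul_one, pow_succ, D.ker_sq h1, one_mul] at h2
  exact mul_inv_eq_one.1 h2.symm

theorem comm3 {g h : Ω} (hg : g ^ 3 = 1) (e : D.π g * D.π h = D.π h * D.π g) : g * h = h * g :=
  (mul_inv_eq_iff_eq_mul.1 (D.eq_of_cube (g := h * g * h⁻¹)
    (by rw [map_mul, map_mul, map_inv, ← e, mul_inv_cancel_right]) (by rw [conj_pow, hg, mul_one, mul_inv_cancel])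
    hg)).symm

theorem lift3 {t : G} (ht : t ∈ T) (h3 : t ^ 3 = 1) : ∃ g, D.π g = t ∧ g ^ 3 = 1 := by
  obtain ⟨g, rfl⟩ := D.surj t ht
  refine ⟨g ^ 4, by rw [map_pow, pow_succ, h3, one_mul], ?_⟩
  rw [← pow_mul, show 4 * 3 = 3 * 2 * 2 from rfl, pow_mul, pow_mul, D.ker_sq (z := g ^ 3) (by rw [map_pow, h3]),
    one_pow]

/-- the group `3⁴` in `G` -/
noncomputable def y (c : W3) : G := D.π (D.x c)

theorem y_add (c d : W3) : D.y (c + d) = D.y c * D.y d := by rw [y, x_add, map_mul]; rfl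

theorem y_zero : D.y 0 = 1 := by rw [y, x_zero, map_one]

theorem y_neg (c : W3) : D.y (-c) = (D.y c)⁻¹ := by rw [y, x_neg, map_inv]; rfl

theorem y_cube (c : W3) : D.y c ^ 3 = 1 := by rw [y, ← map_pow, x_cube, map_one]

theorem y_comm (c d : W3) : D.y c * D.y d = D.y d * D.y c := by rw [← y_add, ← y_add, add_comm]

theorem y_mem (c : W3) : D.y c ∈ T := D.mem _

theorem y_inj {c d : W3} (h : D.y c = D.y d) : c = d :=
  D.om.dg_inj (by rw [← ρ_x, ← ρ_x, D.eq_of_cube h (D.x_cube c) (D.x_cube d)])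

theorem y_X {c : W3} : D.y c ∈ D.X ↔ ∃ i, ∃ s : ZMod 3, s ≠ 0 ∧ c = s • e3 i := D.xx _ c (D.ρ_x c)

theorem y_e3 (i : Fin 4) : D.y (e3 i) ∈ D.X := D.y_X.2 ⟨i, 1, one_ne_zero, (one_smul _ _).symm⟩

theorem y_smul (s : ZMod 3) (c : W3) : D.y (s • c) = D.y c ^ s.val := by
  rcases z3 s with rfl | rfl | rfl
  · rw [zero_smul, y_zero]; exact (pow_zero _).symm
  · rw [one_smul]; exact (pow_one _).symm
  · rw [neg_one_smul, y_neg, inv_eq_iff_mul_eq_one, ← pow_succ']; exact D.y_cube c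

/-- the group `3⁴` as a subgroup of `G` -/
def A : Subgroup G where
  carrier := {g | ∃ c, g = D.y c}
  mul_mem' := by
    rintro _ _ ⟨c, rfl⟩ ⟨d, rfl⟩
    exact ⟨c + d, (D.y_add c d).symm⟩
  one_mem' := ⟨0, D.y_zero.symm⟩
  inv_mem' := by
    rintro _ ⟨c, rfl⟩
    exact ⟨-c, (D.y_neg c).symm⟩

theorem y_mem_A (c : W3) : D.y c ∈ D.A := ⟨c, rfl⟩

theorem mem_of_e3 {K : Subgroup G} (h : ∀ i, D.y (e3 i) ∈ K) (c : W3) : D.y c ∈ K := by
  have h1 : c = c 0 • e3 0 + c 1 • e3 1 + c 2 • e3 2 + c 3 • e3 3 := by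
    funext j
    fin_cases j <;> simp [e3]
  rw [h1, y_add, y_add, y_add, y_smul, y_smul, y_smul, y_smul]
  exact mul_mem (mul_mem (mul_mem (pow_mem (h _) _) (pow_mem (h _) _)) (pow_mem (h _) _)) (pow_mem (h _) _)

theorem tw_iff {g : Ω} {c d : W3} : g * D.x c * g⁻¹ = D.x d ↔ ∀ a b, D.ρ g a b ≠ 0 → wt a d = wt b c := by
  rw [mul_inv_eq_iff_eq_mul, ← D.inj.eq_iff, map_mul, map_mul, ρ_x, ρ_x, D.om.tw_iff]

theorem comm_iff {g : Ω} {c : W3} : g * D.x c = D.x c * g ↔ ∀ a b, D.ρ g a b ≠ 0 → wt a c = wt b c := by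
  rw [← tw_iff, mul_inv_eq_iff_eq_mul]

theorem conj_y {g : Ω} {c d : W3} (h : g * D.x c * g⁻¹ = D.x d) : D.π g * D.y c * (D.π g)⁻¹ = D.y d := by
  rw [y, y, ← h, map_mul, map_mul, map_inv]

theorem of_conj_y {g : Ω} {c d : W3} (h : D.π g * D.y c * (D.π g)⁻¹ = D.y d) : g * D.x c * g⁻¹ = D.x d :=
  D.eq_of_cube (by rw [map_mul, map_mul, map_inv]; exact h) (by rw [conj_pow, x_cube, mul_one, mul_inv_cancel])
    (D.x_cube d)

theorem dg_of_comm {g : Ω} (h : ∀ i, g * D.x (e3 i) = D.x (e3 i) * g) : Dg (D.ρ g) :=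
  fun a b h0 => eq_of_wt fun i => D.comm_iff.1 (h i) a b h0

theorem comm_of_dg {g : Ω} (h : Dg (D.ρ g)) (c : W3) : g * D.x c = D.x c * g :=
  D.comm_iff.2 fun a b h0 => by rw [h a b h0]

theorem exists_x_eq {g : Ω} (h : Dg (D.ρ g)) (h3 : g ^ 3 = 1) : ∃ c, g = D.x c := by
  obtain ⟨c, hc⟩ := D.om.exists_dg h (D.iso g) (by rw [← map_pow, h3, map_one])
  exact ⟨c, D.inj (by rw [hc, ρ_x])⟩

/-- an element of order three of the socle which centralises `3⁴` -/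
theorem mem_A {t : G} (ht : t ∈ T) (h3 : t ^ 3 = 1) (h : ∀ c, t * D.y c = D.y c * t) : t ∈ D.A := by
  obtain ⟨g, rfl, hg⟩ := D.lift3 ht h3
  obtain ⟨c, rfl⟩ := D.exists_x_eq (D.dg_of_comm fun i => D.comm3 hg (h _)) hg
  exact ⟨c, rfl⟩

theorem exists_pm {σ : Equiv.Perm I8} (h1 : Iso (pm F σ)) (h2 : ∀ a, σ a.swap = (σ a).swap) :
    ∃ g, D.ρ g = pm F (σ * σ) := by
  obtain ⟨g, hg⟩ := D.ex _ h1 (rl_pm D.R h2)
  exact ⟨g, by rw [hg, pm_mul_pm]⟩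

theorem exists_sp (s : Equiv.Perm (Fin 4)) : ∃ g, D.ρ g = pm F (sp (s * s)) := by
  rw [← sp_mul]
  exact D.exists_pm (iso_sp s) (sp_swap s)

theorem conj_pm {g : Ω} {σ : Equiv.Perm I8} (hg : D.ρ g = pm F σ) {c d : W3} (h : ∀ a, wt (σ a) d = wt a c) :
    g * D.x c * g⁻¹ = D.x d := D.tw_iff.2 fun a b h0 => by
  rw [hg] at h0
  rw [pm_ne h0, h]

theorem pow_eq_one_of_nil {p : ℕ} [hp : Fact p.Prime] [CharP F p] {g : Ω} {k : ℕ} (h : (D.ρ g - 1) ^ k = 0) :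
    g ^ p ^ k = 1 := D.inj (by
  have h1 := sub_pow_char_pow_of_commute p k (Commute.one_right (D.ρ g))
  rw [pow_eq_zero_of_le (Nat.lt_pow_self hp.1.one_lt).le h, one_pow] at h1
  rw [map_pow, map_one]
  exact sub_eq_zero.1 h1.symm)

/-- **abelian groups normalised by `3⁴`** -/
theorem dg_of_ab {p : ℕ} [hp : Fact p.Prime] [CharP F p] [PerfectField F] {E : Subgroup G} {r : ℕ} (hr : r.Prime)
    (hrp : r ≠ p) (hpow : ∀ e ∈ E, e ^ r = 1) (hc : ∀ a ∈ E, ∀ b ∈ E, a * b = b * a)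
    (hn : ∀ c, ∀ e ∈ E, D.y c * e * (D.y c)⁻¹ ∈ E) {g : Ω} (hg : D.π g ∈ E) : Dg (D.ρ g) := by
  have hr0 : (r : F) ≠ 0 := fun e => hrp ((Nat.prime_dvd_prime_iff_eq hp.1 hr).1 ((CharP.cast_eq_zero_iff F p r).1 e)).symm
  have h1 : ∀ g, D.π g ∈ E → D.π (g ^ r) = 1 := fun g hg => by rw [map_pow, hpow _ hg]
  obtain ⟨n, hn0, hn1⟩ : ∃ n : ℕ, (n : F) ≠ 0 ∧ ∀ g, D.π g ∈ E → D.ρ g ^ n = 1 := by
    by_cases h2 : (2 : F) = 0
    · refine ⟨r, hr0, fun g hg => ?_⟩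
      rw [← map_pow]
      refine ((D.ker _).1 (h1 g hg)).elim id fun e => e.trans ?_
      rw [neg_eq_iff_add_eq_zero, ← two_smul F, h2, zero_smul]
    · refine ⟨r * 2, by push_cast; exact mul_ne_zero hr0 h2, fun g hg => ?_⟩
      rw [← map_pow, pow_mul, D.ker_sq (h1 g hg), map_one]
  have hn' : ∀ c g, D.π g ∈ E → D.π (D.x c * g * (D.x c)⁻¹) ∈ E := fun c g hg => by
    rw [map_mul, map_mul, map_inv]
    exact hn c _ hg
  have hZ : ∀ g, D.π g ∈ E → (∀ h, D.π h ∈ E → g * h = h * g) → Dg (D.ρ g) := fun g hg hg' => by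
    refine dg_of_comm_set D.om (S := D.ρ '' {g | D.π g ∈ E ∧ ∀ h, D.π h ∈ E → g * h = h * g}) ?_ ?_ hn0 ?_
      ⟨g, ⟨hg, hg'⟩, rfl⟩
    · rintro c _ ⟨g, ⟨a1, a2⟩, rfl⟩
      refine ⟨D.x c * g * (D.x c)⁻¹, ⟨hn' c g a1, fun h hh => ?_⟩, by rw [← x_neg, map_mul, map_mul, ρ_x, ρ_x]⟩
      have := a2 _ (hn' (-c) h hh)
      rw [x_neg, inv_inv] at this
      calc _ = D.x c * (g * ((D.x c)⁻¹ * h * D.x c)) * (D.x c)⁻¹ := by group
        _ = _ := by rw [this]; group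
    · rintro _ ⟨g, ⟨-, a2⟩, rfl⟩ _ ⟨h, ⟨a3, -⟩, rfl⟩
      rw [← map_mul, ← map_mul, a2 h a3]
    · rintro _ ⟨g, ⟨a1, -⟩, rfl⟩
      exact hn1 g a1
  have hz : ∀ g h, D.π g ∈ E → D.π h ∈ E → D.π (g * h * g⁻¹ * h⁻¹) = 1 := fun g h hg hh => by
    rw [map_mul, map_mul, map_mul, map_inv, map_inv, hc _ hg _ hh, mul_inv_cancel_right, mul_inv_cancel]
  rcases hr.eq_two_or_odd' with rfl | ⟨k, rfl⟩
  swap
  · refine hZ g hg fun h hh => ?_
    have a1 := hz g h hg hh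
    have a2 : (g * h * g⁻¹ * h⁻¹ * h) ^ (2 * k + 1) = (g * h * g⁻¹ * h⁻¹) ^ (2 * k + 1) * h ^ (2 * k + 1) :=
      Commute.mul_pow (D.central a1 h) _
    rw [inv_mul_cancel_right, conj_pow, ← D.central (h1 h hh), mul_inv_cancel_right, pow_succ (g * h * g⁻¹ * h⁻¹),
      pow_mul, D.ker_sq a1, one_pow, one_mul, right_eq_mul] at a2
    exact mul_inv_eq_iff_eq_mul.1 (mul_inv_eq_one.1 a2)
  · refine D.dg_of_comm fun i => ?_
    have h2 : (2 : F) ≠ 0 := by exact_mod_cast hr0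
    set u := D.x (e3 i) with hu
    have a1 : D.π (u⁻¹ * (g * u * g⁻¹)) ∈ E := by
      have := mul_mem (hn' (-e3 i) g hg) (inv_mem hg)
      rw [x_neg, inv_inv, ← map_inv, ← map_mul] at this
      simpa only [mul_assoc] using this
    have a2 : (u * (u⁻¹ * (g * u * g⁻¹))) ^ 3 = 1 := by
      rw [mul_inv_cancel_left, conj_pow, x_cube, mul_one, mul_inv_cancel]
    have a3 : (u * (u⁻¹ * (g * u * g⁻¹))) * g = g * u := by group
    generalize u⁻¹ * (g * u * g⁻¹) = δ at a1 a2 a3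
    have a4 : ∀ h, D.π h ∈ E → δ * h = h * δ := fun h hh => by
      rcases (D.ker _).1 (hz h δ hh a1) with e | e
      · rw [← map_one D.ρ] at e
        exact (mul_inv_eq_iff_eq_mul.1 (mul_inv_eq_one.1 (D.inj e))).symm
      exfalso
      refine D.om.false_of_trace h2 i (D.iso δ) (by rw [← ρ_x, ← map_mul, ← map_pow, a2, map_one]) ?_
        (by rw [← map_mul, ← pow_two]; exact (D.ker _).1 (h1 δ a1)) ?_
      · rw [← ρ_x, ← map_mul, ← mul_inv_cancel_right (u * δ) g, a3, map_mul, trace_mul_comm, ← map_mul,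
          inv_mul_cancel_left]
      · have b1 : D.ρ (h * δ * h⁻¹) = -D.ρ δ := by
          rw [← inv_mul_cancel_right (h * δ * h⁻¹) δ, map_mul, e, neg_one_mul]
        have b2 := congrArg trace b1
        rw [map_mul, trace_mul_comm, ← map_mul, inv_mul_cancel_left, trace_neg, eq_neg_iff_add_eq_zero,
          ← two_mul] at b2
        exact (mul_eq_zero.1 b2).resolve_left h2
    have a5 := D.comm_of_dg (hZ δ a1 a4) (e3 i)
    rw [Commute.mul_pow a5.symm, x_cube, one_mul, pow_succ] at a2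
    have a6 := D.ker_sq (h1 δ a1)
    rw [← pow_mul, show 2 * 2 = 2 + 1 + 1 from rfl, pow_succ, pow_succ, a2, one_mul] at a6
    rw [← a3, a6, mul_one]

end Dat

end Cfsg.Agent.TH.Cl.D4
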