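import Cfsg.Agent.TH.Cl.D4.Mat

/-!
# S3541, `PΩ₈⁺(q)`: explicit isometries (helper60)

Permutation matrices, rotations of order three of a plane, a regular unipotent element of `SL₃^ε`.
-/

set_option autoImplicit false

namespace Cfsg.Agent.TH.Cl.D4

open Matrix

variable {F : Type} [Field F]

/-! ### permutations -/

/-- permutation matrices -/
def pm (F : Type) [Field F] (σ : Equiv.Perm I8) : M8 F := Matrix.of fun a b => if a = σ b then 1 else 0

theorem mul_pm (M : M8 F) (σ : Equiv.Perm I8) (a b : I8) : (M * pm F σ) a b = M a (σ b) := by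
  simp [pm, mul_apply]

theorem pm_mul (M : M8 F) (σ : Equiv.Perm I8) (a b : I8) : (pm F σ * M) (σ a) b = M a b := by
  simp [pm, mul_apply]

theorem pm_mul_pm (σ τ : Equiv.Perm I8) : pm F σ * pm F τ = pm F (σ * τ) := by
  ext a b
  rw [mul_pm]
  rfl

theorem pm_one : pm F 1 = 1 := by
  ext a b
  rw [pm, of_apply, one_apply]
  exact if_congr Iff.rfl rfl rfl

theorem pm_ne {σ : Equiv.Perm I8} {a b : I8} (h : pm F σ a b ≠ 0) : a = σ b := by
  by_contra e
  exact h (if_neg e)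

theorem pm_mulVec (σ : Equiv.Perm I8) (Y : I8 → F) (a : I8) : (pm F σ *ᵥ Y) a = Y (σ.symm a) := by
  obtain ⟨b, rfl⟩ := σ.surjective a
  simp [pm, mulVec, dotProduct]

/-- permutations of the planes -/
def sp (s : Equiv.Perm (Fin 4)) : Equiv.Perm I8 := Equiv.sumCongr s s

theorem sp_mul (s t : Equiv.Perm (Fin 4)) : sp s * sp t = sp (s * t) := by
  ext a
  rcases a with i | i <;> rfl

theorem sp_one : sp 1 = 1 := by
  ext a
  rcases a with i | i <;> rfl

theorem sp_swap (s : Equiv.Perm (Fin 4)) (a : I8) : sp s a.swap = (sp s a).swap := by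
  rcases a with i | i <;> rfl

theorem ix_sp (s : Equiv.Perm (Fin 4)) (a : I8) : ix (sp s a) = s (ix a) := by
  rcases a with i | i <;> rfl

theorem wt_sp (s : Equiv.Perm (Fin 4)) (a : I8) (c : W3) : wt (sp s a) (c ∘ s.symm) = wt a c := by
  rcases a with i | i <;> simp [wt, sp]

theorem iso_sp (s : Equiv.Perm (Fin 4)) : Iso (pm F (sp s)) := fun Y => by
  simp only [qf, pm_mulVec]
  exact Equiv.sum_comp s.symm fun i => Y (.inl i) * Y (.inr i)

/-- a signed permutation of order four -/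
def t4 : Equiv.Perm I8 :=
  Equiv.swap (.inl 2) (.inr 2) * (Equiv.swap (.inl 2) (.inl 3) * Equiv.swap (.inr 2) (.inr 3))

theorem iso_t4 : Iso (pm F t4) := fun Y => by
  have h : ∀ a, t4.symm a = Sum.elim ![.inl 0, .inl 1, .inr 3, .inl 2] ![.inr 0, .inr 1, .inl 3, .inr 2] a := by decide
  simp only [qf, pm_mulVec, h, Fin.sum_univ_four, Sum.elim_inl, Sum.elim_inr, cons_val]
  ring

theorem t4_swap (a : I8) : t4 a.swap = (t4 a).swap := by
  revert a
  decide

/-! ### rotations -/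

theorem bf_comm (Y Z : I8 → F) : bf Y Z = bf Z Y := by
  simp only [bf, Fintype.sum_sum_type, Sum.swap_inl, Sum.swap_inr, mul_comm]
  exact add_comm _ _

theorem bf_add (Y Y' Z : I8 → F) : bf (Y + Y') Z = bf Y Z + bf Y' Z := by
  simp only [bf, Pi.add_apply, add_mul, Finset.sum_add_distrib]

theorem bf_smul (t : F) (Y Z : I8 → F) : bf (t • Y) Z = t * bf Y Z := by
  simp only [bf, Pi.smul_apply, smul_eq_mul, Finset.mul_sum, mul_assoc]

theorem bf_self (Y : I8 → F) : bf Y Y = 2 * qf Y := by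
  have h := qf_add Y Y
  rw [← two_smul F Y, qf_smul] at h
  linear_combination -h

/-- the rotation with eigenvectors `P`, `P'` -/
def rot (ω : F) (P P' : I8 → F) : M8 F :=
  Matrix.of fun a b => (if a = b then 1 else 0) + (ω - 1) * (P a * P' b.swap) + (ω ^ 2 - 1) * (P' a * P b.swap)

theorem rot_mulVec (ω : F) (P P' Y : I8 → F) :
    rot ω P P' *ᵥ Y = Y + ((ω - 1) * bf Y P') • P + ((ω ^ 2 - 1) * bf Y P) • P' := by
  funext a
  simp only [rot, mulVec, dotProduct, of_apply, add_mul, Finset.sum_add_distrib, ite_mul, one_mul, zero_mul,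
    Finset.sum_ite_eq, Finset.mem_univ, if_true, Pi.add_apply, Pi.smul_apply, smul_eq_mul, bf, Finset.mul_sum,
    Finset.sum_mul]
  congr 1
  · congr 1
    exact Finset.sum_congr rfl fun _ _ => by ring
  · exact Finset.sum_congr rfl fun _ _ => by ring

/-- hyperbolic pairs -/
structure Hp (P P' : I8 → F) : Prop where
  l : qf P = 0
  r : qf P' = 0
  b : bf P P' = 1

theorem Hp.iso {ω : F} (h : Om ω) {P P' : I8 → F} (hP : Hp P P') : Iso (rot ω P P') := fun Y => by
  rw [rot_mulVec, qf_add, qf_add, qf_smul, qf_smul, hP.l, hP.r, bf_add, bf_comm Y (_ • _), bf_comm Y (_ • _), bf_smul,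
    bf_smul, bf_smul, bf_comm P (_ • _), bf_smul, bf_comm P' P, hP.b, bf_comm P Y, bf_comm P' Y]
  linear_combination (bf Y P * bf Y P') * h.cube

theorem ext_mulVec {M N : M8 F} (h : ∀ Y, M *ᵥ Y = N *ᵥ Y) : M = N :=
  Matrix.toLin'.injective (LinearMap.ext h)

theorem Hp.cube {ω : F} (h : Om ω) {P P' : I8 → F} (hP : Hp P P') : rot ω P P' ^ 3 = 1 := by
  have h1 : ∀ Y, bf (rot ω P P' *ᵥ Y) P' = ω * bf Y P' := fun Y => by
    rw [rot_mulVec, bf_add, bf_add, bf_smul, bf_smul, hP.b, bf_self, hP.r]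
    ring
  have h2 : ∀ Y, bf (rot ω P P' *ᵥ Y) P = ω ^ 2 * bf Y P := fun Y => by
    rw [rot_mulVec, bf_add, bf_add, bf_smul, bf_smul, bf_comm P' P, hP.b, bf_self, hP.l]
    ring
  refine ext_mulVec fun Y => ?_
  rw [pow_three, ← mulVec_mulVec, ← mulVec_mulVec, one_mulVec, rot_mulVec, h1, h1, h2, h2, rot_mulVec, h1, h2,
    rot_mulVec]
  funext a
  simp only [Pi.add_apply, Pi.smul_apply, smul_eq_mul]
  linear_combination ((ω - 1) * bf Y P' * P a + (ω ^ 2 - 1) * (ω ^ 2 - ω + 1) * bf Y P * P' a) * h.eq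

/-! ### the real structure -/

/-- matrices which come from the ground field -/
def Rl (R : Subring (F × F)) (M : M8 F) : Prop := ∀ a b, (M a b, M a.swap b.swap) ∈ R

theorem Rl.mul {R : Subring (F × F)} {M N : M8 F} (h : Rl R M) (h' : Rl R N) : Rl R (M * N) := fun a b => by
  have h1 : (M * N) a.swap b.swap = ∑ e, M a.swap (Sum.swap e) * N (Sum.swap e) b.swap :=
    (Equiv.sum_comp (Equiv.sumComm (Fin 4) (Fin 4)) fun e => M a.swap e * N e b.swap).symm
  rw [h1, mul_apply, prod_mk_sum]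
  exact R.sum_mem fun e _ => R.mul_mem (h a e) (h' e b)

theorem rl_pm (R : Subring (F × F)) {σ : Equiv.Perm I8} (h : ∀ a, σ a.swap = (σ a).swap) : Rl R (pm F σ) := fun a b => by
  by_cases e : a = σ b
  · rw [pm, of_apply, of_apply, if_pos e, if_pos (by rw [h, e])]
    exact R.one_mem
  · rw [pm, of_apply, of_apply, if_neg e, if_neg fun e' => e (by rw [← Sum.swap_swap a, e', h, Sum.swap_swap])]
    exact R.zero_mem

/-- the ring `K[ω]` -/
structure Rw (ω : F) (R : Subring (F × F)) : Prop where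
  om : (ω, ω ^ 2) ∈ R
  sw : ∀ s t, (s, t) ∈ R → (t, s) ∈ R

theorem Rw.dg {ω : F} {R : Subring (F × F)} (h : Rw ω R) (c : W3) : Rl R (dg ω c) := fun a b => by
  by_cases e : a = b
  · subst e
    rw [D4.dg, diagonal_apply_eq, diagonal_apply_eq, wt_swap]
    rcases z3 (wt a c) with e | e | e <;> rw [e]
    · rw [neg_zero, om_zero]; exact R.one_mem
    · rw [om_one]; exact h.om
    · rw [neg_neg, om_one]; exact h.sw _ _ h.om
  · rw [D4.dg, diagonal_apply_ne _ e, diagonal_apply_ne _ fun e' => e (by rw [← Sum.swap_swap a, e', Sum.swap_swap])]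
    exact R.zero_mem

theorem Rw.rot {ω : F} {R : Subring (F × F)} (h : Rw ω R) {P P' : I8 → F} (hP : ∀ a, (P a, P' a.swap) ∈ R) :
    Rl R (rot ω P P') := fun a b => by
  have h0 : ∀ a, (P' a, P a.swap) ∈ R := fun a => h.sw _ _ (by simpa using hP a.swap)
  have h1 : ((if a = b then 1 else 0 : F), (if a.swap = b.swap then 1 else 0 : F)) ∈ R := by
    by_cases e : a = b
    · rw [if_pos e, if_pos (by rw [e])]; exact R.one_mem
    · rw [if_neg e, if_neg fun e' => e (by rw [← Sum.swap_swap a, e', Sum.swap_swap])]; exact R.zero_mem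
  convert R.add_mem (R.add_mem h1 (R.mul_mem (R.sub_mem h.om R.one_mem) (R.mul_mem (hP a) (h0 b.swap))))
    (R.mul_mem (R.sub_mem (h.sw _ _ h.om) R.one_mem) (R.mul_mem (h0 a) (hP b.swap))) using 1
  refine Prod.ext rfl ?_
  simp only [D4.rot, of_apply, Prod.mk_mul_mk, Prod.snd_add, Prod.snd_mul, Prod.snd_sub, Prod.snd_one]
  ring

/-! ### the unipotent element -/

section unip

variable (ω α β : F)

/-- first eigenvector -/
def uP : I8 → F := Sum.elim ![-1, -α, 1, 0] 0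

/-- second eigenvector -/
def uQ : I8 → F := Sum.elim 0 ![-1, -β, 1, 0]

theorem hp_u {α β : F} (h : α * β = -1) : Hp (uP α) (uQ β) := by
  refine ⟨by simp [qf, uP], by simp [qf, uQ], ?_⟩
  simp [bf, uP, uQ, Fin.sum_univ_four, h]

theorem rl_u {R : Subring (F × F)} {α β : F} (h : (α, β) ∈ R) (a : I8) : (uP α a, uQ β a.swap) ∈ R := by
  rcases a with i | i
  · fin_cases i
    exacts [R.neg_mem R.one_mem, R.neg_mem h, R.one_mem, R.zero_mem]
  · exact R.zero_mem

/-- the rotation -/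
def uY : M8 F := rot ω (uP α) (uQ β)

/-- the unipotent element -/
def uU : M8 F := dg ω (-e3 2) * uY ω α β

theorem uY_ne {a b : I8} (h : uY ω α β a b ≠ 0) :
    a = b ∨ (∃ i j, i ≠ 3 ∧ j ≠ 3 ∧ a = .inl i ∧ b = .inl j) ∨ ∃ i j, i ≠ 3 ∧ j ≠ 3 ∧ a = .inr i ∧ b = .inr j := by
  by_cases e : a = b
  · exact Or.inl e
  right
  rcases a with i | i <;> rcases b with j | j
  · refine Or.inl ⟨i, j, ?_, ?_, rfl, rfl⟩ <;> rintro rfl <;> exact h (by simp [uY, rot, uP, uQ, e])
  · exact absurd (by simp [uY, rot, uP, uQ]) h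
  · exact absurd (by simp [uY, rot, uP, uQ]) h
  · refine Or.inr ⟨i, j, ?_, ?_, rfl, rfl⟩ <;> rintro rfl <;> exact h (by simp [uY, rot, uP, uQ, e])

variable {ω α β} (h : Om ω) (hαβ : α * β = -1)
include h hαβ

omit hαβ in
theorem uU_mulVec (Y : I8 → F) : (uU ω α β - 1) *ᵥ Y =
    Sum.elim ![(1 - ω) * (Y (.inl 2) - Y (.inl 0) - β * Y (.inl 1)),
        α * (1 - ω) * (Y (.inl 2) - Y (.inl 0) - β * Y (.inl 1)), (ω ^ 2 - 1) * (Y (.inl 0) + β * Y (.inl 1)), 0]
      ![(1 - ω ^ 2) * (Y (.inr 2) - Y (.inr 0) - α * Y (.inr 1)),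
        β * (1 - ω ^ 2) * (Y (.inr 2) - Y (.inr 0) - α * Y (.inr 1)), (ω - 1) * (Y (.inr 0) + α * Y (.inr 1)), 0] := by
  have h1 : bf Y (uQ β) = Y (.inl 2) - Y (.inl 0) - β * Y (.inl 1) := by
    simp [bf, uQ, Fin.sum_univ_four]; ring
  have h2 : bf Y (uP α) = Y (.inr 2) - Y (.inr 0) - α * Y (.inr 1) := by
    simp [bf, uP, Fin.sum_univ_four]; ring
  have w : ∀ a, om ω (wt a (-e3 2)) = Sum.elim ![1, 1, ω ^ 2, 1] ![1, 1, ω, 1] a := fun a => by
    rcases a with i | i <;> fin_cases i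
    exacts [om_zero ω, om_zero ω, rfl, om_zero ω, om_zero ω, om_zero ω, om_one ω, om_zero ω]
  rw [sub_mulVec, one_mulVec, uU, ← mulVec_mulVec, uY, rot_mulVec, h1, h2]
  funext a
  rw [Pi.sub_apply, dg, mulVec_diagonal, w]
  rcases a with i | i <;> fin_cases i <;> simp [uP, uQ]
  · ring
  · ring
  · linear_combination (Y (.inl 2) - Y (.inl 0) - β * Y (.inl 1)) * h.cube
  · ring
  · ring
  · linear_combination (Y (.inr 2) - Y (.inr 0) - α * Y (.inr 1)) * h.cube

theorem uU_cube : (uU ω α β - 1) ^ 3 = 0 := by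
  refine ext_mulVec fun Y => ?_
  have h1 : ∀ Y, ((uU ω α β - 1) *ᵥ Y) (.inl 0) + β * ((uU ω α β - 1) *ᵥ Y) (.inl 1) = 0 := fun Y => by
    simp only [uU_mulVec h, Sum.elim_inl, cons_val]
    linear_combination (1 - ω) * (Y (.inl 2) - Y (.inl 0) - β * Y (.inl 1)) * hαβ
  have h2 : ∀ Y, ((uU ω α β - 1) *ᵥ Y) (.inr 0) + α * ((uU ω α β - 1) *ᵥ Y) (.inr 1) = 0 := fun Y => by
    simp only [uU_mulVec h, Sum.elim_inr, cons_val]
    linear_combination (1 - ω ^ 2) * (Y (.inr 2) - Y (.inr 0) - α * Y (.inr 1)) * hαβ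
  have h3 : ((uU ω α β - 1) *ᵥ ((uU ω α β - 1) *ᵥ Y)) (.inl 2) = 0 := by
    rw [uU_mulVec h, h1]
    simp
  have h4 : ((uU ω α β - 1) *ᵥ ((uU ω α β - 1) *ᵥ Y)) (.inr 2) = 0 := by
    rw [uU_mulVec h, h2]
    simp
  rw [pow_three, ← mulVec_mulVec, ← mulVec_mulVec, zero_mulVec, uU_mulVec h, h3, h4, sub_sub, sub_sub, h1, h2]
  funext a
  rcases a with i | i <;> fin_cases i <;> simp

theorem uU_sq : (uU ω α β - 1) ^ 2 ≠ 0 := fun e => by
  have h1 := congrFun (congrArg (· *ᵥ Pi.single (.inl 0) 1) e) (.inl 0)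
  simp only [pow_two, ← mulVec_mulVec, zero_mulVec, uU_mulVec h, Sum.elim_inl, cons_val, Pi.zero_apply,
    Pi.single_eq_same, Pi.single_eq_of_ne (show (Sum.inl 1 : I8) ≠ .inl 0 by decide),
    Pi.single_eq_of_ne (show (Sum.inl 2 : I8) ≠ .inl 0 by decide)] at h1
  refine h.three ?_
  linear_combination -h1 + (1 - ω) ^ 2 * hαβ - h.cube + h.eq

theorem uU_fix {Y : I8 → F} (e : uU ω α β *ᵥ Y = Y) : qf Y = Y (.inl 3) * Y (.inr 3) := by
  have h1 := uU_mulVec h (α := α) (β := β) Y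
  rw [sub_mulVec, one_mulVec, e, sub_self] at h1
  have a0 := congrFun h1 (.inl 0)
  have a2 := congrFun h1 (.inl 2)
  have b0 := congrFun h1 (.inr 0)
  have b2 := congrFun h1 (.inr 2)
  simp only [Pi.zero_apply, Sum.elim_inl, Sum.elim_inr, cons_val] at a0 a2 b0 b2
  have a3 := (mul_eq_zero.1 a0.symm).resolve_left (sub_ne_zero.2 h.ne_one.symm)
  have a4 := (mul_eq_zero.1 a2.symm).resolve_left (sub_ne_zero.2 h.sq_ne_one)
  have b4 := (mul_eq_zero.1 b2.symm).resolve_left (sub_ne_zero.2 h.ne_one)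
  rw [qf, Fin.sum_univ_four]
  linear_combination Y (.inr 2) * a3 + (Y (.inr 2) + Y (.inr 0)) * a4 - β * Y (.inl 1) * b4 +
    Y (.inl 1) * Y (.inr 1) * hαβ

omit hαβ in
theorem uU_entry : uU ω α β (.inl 0) (.inl 2) ≠ 0 ∧ uU ω α β (.inl 2) (.inl 2) ≠ 0 := by
  have h1 := uU_mulVec h (α := α) (β := β) (Pi.single (.inl 2) 1)
  rw [sub_mulVec, one_mulVec, mulVec_single_one] at h1
  have a0 := congrFun h1 (.inl 0)
  have a2 := congrFun h1 (.inl 2)
  simp at a0 a2
  rw [a0, sub_eq_zero.1 a2]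
  exact ⟨sub_ne_zero.2 h.ne_one.symm, one_ne_zero⟩

end unip

/-! ### a rotation of a plane in general position in the sum of two planes -/

section gen

variable (ω : F) (t : F)

/-- first eigenvector -/
def gP : I8 → F := Sum.elim ![-t, t, 0, 0] ![-t, -t, 0, 0]

/-- second eigenvector -/
def gQ : I8 → F := Sum.elim ![-t, -t, 0, 0] ![-t, t, 0, 0]

theorem hp_g {t : F} (h : 2 * t = 1) : Hp (gP t) (gQ t) := by
  refine ⟨by simp [qf, gP, Fin.sum_univ_four], by simp [qf, gQ, Fin.sum_univ_four], ?_⟩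
  simp [bf, gP, gQ, Fin.sum_univ_four]
  linear_combination (2 * t + 1) * h

theorem rl_g {R : Subring (F × F)} {t : F} (h : (t, t) ∈ R) (a : I8) : (gP t a, gQ t a.swap) ∈ R := by
  rcases a with i | i <;> fin_cases i
  exacts [R.neg_mem h, h, R.zero_mem, R.zero_mem, R.neg_mem h, R.neg_mem h, R.zero_mem, R.zero_mem]

/-- the rotation -/
def gY : M8 F := rot ω (gP t) (gQ t)

theorem gY_ne {a b : I8} (h : gY ω t a b ≠ 0) : a = b ∨ (ix a < 2 ∧ ix b < 2) := by
  by_cases e : a = b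
  · exact Or.inl e
  right
  have h1 : ∀ a, ¬ ix a < 2 → gP t a = 0 ∧ gQ t a = 0 := fun a ha => by
    rcases a with i | i <;> fin_cases i <;> first | exact absurd (by decide) ha | exact ⟨rfl, rfl⟩
  constructor
  · by_contra ha
    exact h (by simp [gY, rot, e, h1 a ha])
  · by_contra hb
    exact h (by simp [gY, rot, e, h1 b.swap (by rwa [ix_swap])])

theorem gY_entry {ω t : F} (h : Om ω) (ht : 2 * t = 1) (i j : Fin 4) (hi : i < 2) (hj : j < 2) :
    (gY ω t * dg ω (e3 i) * adj (gY ω t)) (.inl j) (.inr j) ≠ 0 := by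
  have h0 : (t ^ 4 * 9 : F) ≠ 0 := mul_ne_zero (pow_ne_zero _ (right_ne_zero_of_mul_eq_one ht))
    (by rw [show (9 : F) = 3 * 3 by norm_num]; exact mul_ne_zero h.three h.three)
  have w0 : ∀ a, om ω (wt a (e3 0)) = Sum.elim ![ω, 1, 1, 1] ![ω ^ 2, 1, 1, 1] a := fun a => by
    rcases a with i | i <;> fin_cases i
    exacts [om_one ω, om_zero ω, om_zero ω, om_zero ω, rfl, om_zero ω, om_zero ω, om_zero ω]
  have w1 : ∀ a, om ω (wt a (e3 1)) = Sum.elim ![1, ω, 1, 1] ![1, ω ^ 2, 1, 1] a := fun a => by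
    rcases a with i | i <;> fin_cases i
    exacts [om_zero ω, om_one ω, om_zero ω, om_zero ω, om_zero ω, rfl, om_zero ω, om_zero ω]
  rw [mul_apply]
  simp only [mul_dg]
  intro e
  fin_cases i <;> fin_cases j <;> first | exact absurd hi (by decide) | exact absurd hj (by decide) | skip
  all_goals
    simp [w0, w1, gY, rot, adj, gP, gQ, Fin.sum_univ_four] at e
    have h1 := h.eq
    apply h0
    grind

end gen

end Cfsg.Agent.TH.Cl.D4
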