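import Cfsg.Agent.TH.Cl.D4.Elt

/-!
# S3541, `PΩ₈⁺(q)`: three matrix lemmas (helper60)
-/

set_option autoImplicit false

namespace Cfsg.Agent.TH.Cl.D4

open Matrix

variable {F : Type} [Field F] {ω : F}

theorem trace_dg_mul (ω : F) (i : Fin 4) (M : M8 F) :
    (dg ω (e3 i) * M).trace = M.trace + (ω - 1) * M (.inl i) (.inl i) + (ω ^ 2 - 1) * M (.inr i) (.inr i) := by
  have w : ∀ a, om ω (wt a (e3 i)) = 1 + (if a = .inl i then ω - 1 else 0) + if a = .inr i then ω ^ 2 - 1 else 0 := by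
    intro a
    by_cases e : ix a = i
    · rcases a with j | j <;> obtain rfl : j = i := e
      · simp [wt, e3, om_one]
      · simp [wt, e3, om_neg_one]
    · rw [wt_e3_of_ne e, om_zero, if_neg (by rintro rfl; exact e rfl), if_neg (by rintro rfl; exact e rfl)]
      ring
  simp only [trace, diag_apply, dg_mul', w, add_mul, Finset.sum_add_distrib, one_mul, ite_mul, zero_mul,
    Finset.sum_ite_eq', Finset.mem_univ, if_true]

theorem sq_sum {A : Type*} [Ring A] {a b c ε : A} (h : a * b * c = 1) (h' : c * a * b = 1) (ha : a * a = ε)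
    (hb : b * b = ε) (hc : c * c = ε) (hε : ε = 1 ∨ ε = -1) :
    (a + b + c) * (a + b + c) = 3 * ε + (ε + 1) * (a + b + c) := by
  have h1 : a * b = ε * c := by
    rcases hε with rfl | rfl
    · rw [one_mul, ← mul_one (a * b), ← hc, ← mul_assoc, h, one_mul]
    · rw [neg_mul, one_mul, ← neg_eq_iff_eq_neg, ← mul_neg_one, ← hc, ← mul_assoc, h, one_mul]
  have h2 : b * c = ε * a := by
    rcases hε with rfl | rfl
    · rw [one_mul, ← one_mul (b * c), ← ha, mul_assoc, ← mul_assoc a b, h, mul_one]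
    · rw [neg_mul, one_mul, ← neg_eq_iff_eq_neg, ← neg_one_mul, ← ha, mul_assoc, ← mul_assoc a b, h, mul_one]
  have h3 : c * a = ε * b := by
    rcases hε with rfl | rfl
    · rw [one_mul, ← mul_one (c * a), ← hb, ← mul_assoc, h', one_mul]
    · rw [neg_mul, one_mul, ← neg_eq_iff_eq_neg, ← mul_neg_one, ← hb, ← mul_assoc, h', one_mul]
  have h0 : ∀ x : A, ε * (ε * x) = x := fun x => by rcases hε with rfl | rfl <;> simp
  have h0' : ∀ x y : A, x * (ε * y) = ε * (x * y) := fun x y => by rcases hε with rfl | rfl <;> simp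
  have h4 : b * a = c := by rw [← h0 a, ← h2, h0', ← mul_assoc b, hb, h0]
  have h5 : c * b = a := by rw [← h0 b, ← h3, h0', ← mul_assoc c, hc, h0]
  have h6 : a * c = b := by rw [← h0 c, ← h1, h0', ← mul_assoc a, ha, h0]
  simp only [mul_add, add_mul, h1, h2, h3, h4, h5, h6, ha, hb, hc]
  noncomm_ring

theorem adj_add (M N : M8 F) : adj (M + N) = adj M + adj N := rfl

theorem Iso.adj_eq {M : M8 F} (hM : Iso M) {ε : M8 F} (h : M * M = ε) (hε : ε = 1 ∨ ε = -1) : D4.adj M = ε * M := by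
  rw [← one_mul (D4.adj M), show (1 : M8 F) = ε * (M * M) by rcases hε with rfl | rfl <;> simp [h], mul_assoc,
    mul_assoc, hM.mul_adj, mul_one]

/-- the commutator of a rotation with an element of a group of symplectic type -/
theorem Om.false_of_trace (h : Om ω) (h2 : (2 : F) ≠ 0) (i : Fin 4) {Δ : M8 F} (hΔ : Iso Δ)
    (h3 : (dg ω (e3 i) * Δ) ^ 3 = 1) (ht : (dg ω (e3 i) * Δ).trace = (dg ω (e3 i)).trace)
    (hε : Δ * Δ = 1 ∨ Δ * Δ = -1) (h0 : Δ.trace = 0) : False := by
  set X := dg ω (e3 i) with hX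
  have hI : Iso X := h.iso_dg _
  have x3 : X * (X * X) = 1 := by
    rw [hX, h.dg_mul, h.dg_mul, ← dg_zero ω]
    congr 1
    funext j
    simp only [Pi.add_apply, Pi.zero_apply]
    generalize e3 i j = k
    revert k
    decide
  have x3' : ∀ M : M8 F, X * (X * (X * M)) = M := fun M => by
    rw [← mul_assoc X X M, ← mul_assoc, x3, one_mul]
  rw [pow_three] at h3
  have e1 : ∀ M : M8 F, (Δ * Δ) * M = M * (Δ * Δ) := fun M => by rcases hε with e | e <;> simp [e]
  have a1 : X * Δ * (X * X) * (X * X * Δ * X) * Δ = 1 := by simpa only [mul_assoc, x3'] using h3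
  have a2 : Δ * (X * Δ * (X * X)) * (X * X * Δ * X) = 1 := by
    rw [mul_assoc]
    exact mul_eq_one_comm.1 a1
  have a3 : X * Δ * (X * X) * (X * Δ * (X * X)) = Δ * Δ := by
    simp only [mul_assoc, x3']
    rw [← mul_assoc Δ, e1, ← mul_assoc, x3, one_mul]
  have a4 : X * X * Δ * X * (X * X * Δ * X) = Δ * Δ := by
    simp only [mul_assoc, x3']
    rw [← mul_assoc Δ, e1, x3']
  have a5 := sq_sum a1 a2 a3 a4 rfl hε
  have a6 : adj (X * Δ * (X * X) + X * X * Δ * X + Δ) = Δ * Δ * (X * Δ * (X * X) + X * X * Δ * X + Δ) := by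
    rw [adj_add, adj_add, ((hI.mul hΔ).mul (hI.mul hI)).adj_eq a3 hε, (((hI.mul hI).mul hΔ).mul hI).adj_eq a4 hε,
      hΔ.adj_eq rfl hε, mul_add, mul_add]
  have a7 : (X * Δ * (X * X) + X * X * Δ * X + Δ) * X = X * (X * Δ * (X * X) + X * X * Δ * X + Δ) := by
    simp only [mul_add, add_mul, mul_assoc, x3', x3, mul_one]
    abel
  have a8 : (X * Δ * (X * X) + X * X * Δ * X + Δ).trace = 0 := by
    rw [trace_add, trace_add, trace_mul_comm, trace_mul_comm _ X]
    simp only [mul_assoc, x3', h0, add_zero]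
  have a9 : (X * (X * Δ * (X * X) + X * X * Δ * X + Δ)).trace = 15 := by
    have b1 : X.trace = 5 := by
      have := trace_dg_mul ω i 1
      rw [mul_one, trace_one, one_apply_eq, one_apply_eq] at this
      rw [this]
      simp only [Fintype.card_sum, Fintype.card_fin]
      push_cast
      linear_combination h.eq
    rw [mul_add, mul_add, trace_add, trace_add, ← mul_assoc X, trace_mul_comm _ (X * X)]
    simp only [mul_assoc, x3']
    rw [trace_mul_comm Δ, ht, b1]
    norm_num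
  generalize X * Δ * (X * X) + X * X * Δ * X + Δ = η at a5 a6 a7 a8 a9
  rw [hX, trace_dg_mul, a8] at a9
  have b2 : (η * η) (.inl i) (.inl i) = η (.inl i) (.inl i) ^ 2 := by
    rw [mul_apply, Finset.sum_eq_single (.inl i), pow_two]
    · intro b _ hb
      by_contra h0
      rcases wt_e3_cases (h.tw_iff.1 a7 _ _ (left_ne_zero_of_mul h0)) with e | e
      · exact hb e.symm
      · exact e.1 rfl
    · exact fun e => absurd (Finset.mem_univ _) e
  have b3 : η (.inr i) (.inr i) = _ := congrFun (congrFun a6 (.inl i)) (.inl i)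
  have b4 := h.eq
  rw [a5] at b2
  have b5 : ∀ n : ℕ, (2 : F) ^ n * 3 ^ n ≠ 0 := fun n => mul_ne_zero (pow_ne_zero _ h2) (pow_ne_zero _ h.three)
  have b6 : (3 : M8 F) (.inl i) (.inl i) = 3 := by
    rw [show (3 : M8 F) = 1 + 1 + 1 by norm_num, Matrix.add_apply, Matrix.add_apply, one_apply_eq]
    norm_num
  rcases hε with e | e <;> rw [e] at b2 b3
  · rw [mul_one, add_mul, one_mul, Matrix.add_apply, Matrix.add_apply, b6] at b2
    rw [one_mul] at b3
    apply b5 5
    grind
  · rw [neg_add_cancel, zero_mul, add_zero, mul_neg_one, Matrix.neg_apply, b6] at b2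
    rw [neg_one_mul, Matrix.neg_apply] at b3
    apply b5 3
    grind

theorem col_eq {N : M8 F} {b b' : I8} (h : ∀ a, N a b ≠ 0 → a = b') :
    N *ᵥ Pi.single b 1 = N b' b • Pi.single b' 1 := by
  funext a
  rw [mulVec_single_one, Pi.smul_apply, smul_eq_mul]
  by_cases e : a = b'
  · rw [e, Pi.single_eq_same, mul_one]; rfl
  · rw [Pi.single_eq_of_ne e, mul_zero]
    by_contra h0
    exact e (h a h0)

theorem eig_eq_one {N : M8 F} (h3 : (N - 1) ^ 3 = 0) {b : I8} {t : F} (h : N *ᵥ Pi.single b 1 = t • Pi.single b 1) :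
    t = 1 := by
  have h1 : (N - 1) *ᵥ Pi.single b 1 = (t - 1) • Pi.single b 1 := by rw [sub_mulVec, one_mulVec, h, sub_smul, one_smul]
  have h2 := congrFun (congrArg (· *ᵥ Pi.single b 1) h3) b
  simp only [pow_three, ← mulVec_mulVec, h1, mulVec_smul, zero_mulVec, Pi.smul_apply, Pi.single_eq_same, smul_eq_mul,
    mul_one, Pi.zero_apply, mul_eq_zero, or_self] at h2
  exact sub_eq_zero.1 h2

/-- a unipotent isometry which normalises the rotations of a plane fixes a non-singular vector of the plane -/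
theorem Om.exists_fix (h : Om ω) {N : M8 F} (hN : Iso N) {i : Fin 4} {s : ZMod 3} (hs : s ≠ 0)
    (e : N * dg ω (e3 i) = dg ω (s • e3 i) * N) (h3 : (N - 1) ^ 3 = 0) :
    ∃ Y, N *ᵥ Y = Y ∧ qf Y ≠ 0 ∧ ∀ b, Y b ≠ 0 → ix b = i := by
  have h1 := h.tw_iff.1 e
  have h2 : ∀ t : F, t ≠ 0 → qf (Pi.single (.inl i) 1 + t • Pi.single (.inr i) 1 : I8 → F) ≠ 0 ∧
      ∀ b, (Pi.single (.inl i) 1 + t • Pi.single (.inr i) 1 : I8 → F) b ≠ 0 → ix b = i := fun t ht => by
    refine ⟨?_, fun b hb => ?_⟩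
    · rw [qf_add, qf_smul, qf_single, qf_single, bf_comm, bf_smul, bf_single]
      simpa using ht
    · by_contra e
      exact hb (by
        rw [Pi.add_apply, Pi.smul_apply, Pi.single_eq_of_ne (by rintro rfl; exact e rfl),
          Pi.single_eq_of_ne (by rintro rfl; exact e rfl), smul_zero, add_zero])
  rcases z3 s with rfl | rfl | rfl
  · exact absurd rfl hs
  · rw [one_smul] at h1
    have a1 : ∀ b, ix b = i → N *ᵥ Pi.single b 1 = Pi.single b 1 := fun b hb => by
      have := col_eq (N := N) (b := b) (b' := b) fun a ha => (wt_e3_cases (h1 a b ha)).resolve_right fun e => e.2 hb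
      rw [this, eig_eq_one h3 this, one_smul]
    refine ⟨_, ?_, h2 1 one_ne_zero⟩
    rw [mulVec_add, mulVec_smul, a1 _ rfl, a1 _ rfl]
  · have a1 : ∀ b, ix b = i → N *ᵥ Pi.single b 1 = N b.swap b • Pi.single b.swap 1 := fun b hb =>
      col_eq fun a ha => by
        have a2 := h1 a b ha
        rw [neg_one_smul, wt_neg, ← wt_swap] at a2
        rw [← (wt_e3_cases a2).resolve_right fun e => e.2 hb, Sum.swap_swap]
    have a2 := hN.bf (Pi.single (.inl i) 1) (Pi.single (.inr i) 1)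
    rw [a1 _ rfl, a1 _ rfl, bf_smul, bf_comm, bf_smul, bf_single, bf_single] at a2
    simp only [Sum.swap_inl, Sum.swap_inr, Pi.single_eq_same, mul_one] at a2
    refine ⟨_, ?_, h2 _ (left_ne_zero_of_mul_eq_one a2)⟩
    rw [mulVec_add, mulVec_smul, a1 _ rfl, a1 _ rfl, smul_smul, add_comm]
    simp only [Sum.swap_inl, Sum.swap_inr, a2, one_smul]

theorem two_nil {M : M8 F} {μ : I8 → I8} (h1 : ∀ a, μ (μ a) = a) (h2 : ∀ a, μ a ≠ a)
    (h : ∀ a b, M a b ≠ 0 → a = b ∨ a = μ b) (h3 : M ^ 3 = 0) : M ^ 2 = 0 := by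
  have a1 : ∀ (N : M8 F) a b, (N * M) a b = N a b * M b b + N a (μ b) * M (μ b) b := fun N a b => by
    rw [mul_apply, Finset.sum_eq_add_of_mem b (μ b) (Finset.mem_univ _) (Finset.mem_univ _) (h2 b).symm]
    intro c _ hc
    by_contra h0
    rcases h _ _ (right_ne_zero_of_mul h0) with e | e
    exacts [hc.1 e, hc.2 e]
  have a2 : ∀ a b, ((M a b * M b b + M a (μ b) * M (μ b) b) * M b b +
      (M a (μ b) * M (μ b) (μ b) + M a b * M b (μ b)) * M (μ b) b) = 0 := fun a b => by
    have := congrFun (congrFun h3 a) b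
    rwa [pow_three', a1, a1, a1, h1] at this
  ext a b
  rw [pow_two, a1, Matrix.zero_apply]
  have c1 := a2 b b
  have c2 := a2 (μ b) b
  have c3 := a2 b (μ b)
  have c4 := a2 (μ b) (μ b)
  rw [h1] at c3 c4
  have key : M b b + M (μ b) (μ b) = 0 ∧ M b b * M (μ b) (μ b) - M b (μ b) * M (μ b) b = 0 := by
    generalize M b b = α at *
    generalize M (μ b) (μ b) = δ at *
    generalize M b (μ b) = β at *
    generalize M (μ b) b = γ at *
    have d1 : α * δ - β * γ = 0 := by
      refine pow_eq_zero_iff (n := 3) (by norm_num) |>.1 ?_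
      linear_combination ((β * γ + δ * δ) * δ + (γ * β) * (α + δ) - 0) * c1 -
        ((β * α + δ * β) * α + (β * γ + δ * δ) * β - (α * α - α * α)) * c2 + 0 * c3 + 0 * c4
    refine ⟨pow_eq_zero_iff (n := 3) (by norm_num) |>.1 ?_, d1⟩
    linear_combination c1 + c4 + 3 * (α + δ) * d1
  by_cases e1 : a = b
  · rw [e1]
    linear_combination M b b * key.1 - key.2
  by_cases e2 : a = μ b
  · rw [e2]
    linear_combination M (μ b) b * key.1
  have f1 : M a b = 0 := by
    by_contra h0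
    exact (h _ _ h0).elim e1 e2
  have f2 : M a (μ b) = 0 := by
    by_contra h0
    exact (h _ _ h0).elim e2 fun e => e1 (e.trans (h1 b))
  rw [f1, f2, zero_mul, zero_mul, add_zero]

/-- the element with centraliser `GL₄^ε` -/
def jj (σ : ZMod 3) : W3 := ![1, 1, 1, σ]

/-- a conjugate -/
def jk (σ : ZMod 3) : W3 := ![1, 1, -1, -σ]

theorem exists_partner : ∀ σ : ZMod 3, σ ≠ 0 → ∃ μ : I8 → I8, (∀ a, μ (μ a) = a) ∧ (∀ a, μ a ≠ a) ∧
    ∀ a b, wt a (jj σ) = wt b (jj σ) → wt a (jk σ) = wt b (jk σ) → a = b ∨ a = μ b := by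
  intro σ hσ
  rcases z3 σ with rfl | rfl | rfl
  · exact absurd rfl hσ
  · exact ⟨Sum.elim ![.inl 1, .inl 0, .inl 3, .inl 2] ![.inr 1, .inr 0, .inr 3, .inr 2], by decide, by decide,
      by decide +kernel⟩
  · exact ⟨Sum.elim ![.inl 1, .inl 0, .inr 3, .inr 2] ![.inr 1, .inr 0, .inl 3, .inl 2], by decide, by decide,
      by decide +kernel⟩

theorem wt_jk : ∀ σ : ZMod 3, σ ≠ 0 → ∀ a, wt a (jk σ) ≠ wt a (-jk σ) := by decide

/-- a unipotent element of `GL₄^ε` which preserves a decomposition into two halves -/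
theorem Om.sq_eq_zero (h : Om ω) {N : M8 F} {σ s : ZMod 3} (hσ : σ ≠ 0) (hs : s ≠ 0)
    (e1 : N * dg ω (jj σ) = dg ω (jj σ) * N) (e2 : N * dg ω (jk σ) = dg ω (s • jk σ) * N) (h3 : (N - 1) ^ 3 = 0) :
    (N - 1) ^ 2 = 0 := by
  rcases z3 s with rfl | rfl | rfl
  · exact absurd rfl hs
  · rw [one_smul] at e2
    obtain ⟨μ, h1, h2, h4⟩ := exists_partner σ hσ
    refine two_nil h1 h2 (fun a b h0 => ?_) h3
    by_cases e : a = b
    · exact Or.inl e
    rw [Matrix.sub_apply, one_apply_ne e, sub_zero] at h0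
    exact h4 a b (h.tw_iff.1 e1 a b h0) (h.tw_iff.1 e2 a b h0)
  · rw [neg_one_smul] at e2
    have e3 : N * dg ω (-jk σ) = dg ω (jk σ) * N := h.tw_iff.2 fun a b h0 => by
      rw [wt_neg, ← h.tw_iff.1 e2 a b h0, wt_neg, neg_neg]
    have e4 : N * N * dg ω (jk σ) = dg ω (jk σ) * (N * N) := by
      rw [mul_assoc, e2, ← mul_assoc, e3, mul_assoc]
    have e5 : N * N * N + 3 * N = 3 * (N * N) + 1 := by
      rw [← sub_eq_zero, ← h3]
      noncomm_ring
    have c3 : ∀ M : M8 F, M * 3 = 3 * M := fun M => by noncomm_ring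
    have e6 : (N * N * N + 3 * N) * dg ω (-jk σ) = (N * N * N + 3 * N) * dg ω (jk σ) := by
      calc _ = dg ω (jk σ) * (N * N * N + 3 * N) := by
            rw [add_mul, mul_assoc (N * N), e3, ← mul_assoc, e4, mul_assoc 3, e3, mul_add, ← mul_assoc 3, ← c3,
              mul_assoc, mul_assoc (dg ω _)]
        _ = _ := by
            rw [e5, add_mul, mul_add, mul_assoc 3, e4, one_mul, mul_one, ← mul_assoc (dg ω _), c3, mul_assoc 3]
    have e7 : N * N * N + 3 * N = 0 := by
      ext a b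
      have := congrFun (congrFun e6 a) b
      rw [mul_dg, mul_dg] at this
      by_contra h0
      exact wt_jk σ hσ b (h.om_inj (mul_left_cancel₀ h0 this)).symm
    have e8 : 3 * (N * N) + 1 = 0 := e5 ▸ e7
    have e9 : (8 : M8 F) * (N * N) = 0 := by
      have : (8 : M8 F) * (N * N) = 3 * (N * (N * N * N + 3 * N)) - N * N * (3 * (N * N) + 1) := by noncomm_ring
      rw [this, e7, e8, mul_zero, mul_zero, mul_zero, sub_zero]
    have e10 : (8 : M8 F) = 0 := by
      have : (8 : M8 F) * 1 = 8 * (3 * (N * N) + 1) - 3 * (8 * (N * N)) := by noncomm_ring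
      rw [← mul_one (8 : M8 F), this, e8, e9, mul_zero, mul_zero, sub_zero]
    have e11 : (2 : F) = 0 := by
      have := congrFun (congrFun e10 (.inl 0)) (.inl 0)
      rw [show (8 : M8 F) = ((8 : ℕ) : M8 F) by norm_num, Matrix.natCast_apply, if_pos rfl, Matrix.zero_apply] at this
      exact pow_eq_zero_iff (n := 3) (by norm_num) |>.1 (by rw [← this]; norm_num)
    have e12 : (2 : M8 F) = 0 := by
      rw [show (2 : M8 F) = (2 : F) • (1 : M8 F) by rw [two_smul]; norm_num, e11, zero_smul]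
    have : (N - 1) ^ 2 = 3 * (N * N) + 1 - 2 * (N * N + N) := by noncomm_ring
    rw [this, e8, e12, zero_mul, sub_zero]

end Cfsg.Agent.TH.Cl.D4
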