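import Cfsg.Agent.TH.Cl.D4.Dat
import Cfsg.Agent.TH.Cl.Br.Main
import Cfsg.Agent.H875.KB.Gen

/-!
# S3541, `PΩ₈⁺(q)`: construction of the matrix model (helper60)
-/

set_option autoImplicit false

namespace Cfsg.Agent.TH.Cl.D4

open Matrix Cfsg.Agent.LieClassical.OrthCore Cfsg.Agent.ClassicalGeometry.OrthSemi Cfsg.Agent.LieClassical.OrthForms
  Cfsg.Agent.ClassicalGeometry.OrthSemiForms Cfsg.Agent.ClassicalGeometry

section ground

variable {K : Type} [Field K]

/-- four copies of the form `s² - s t + t²` -/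
def nf (w : I8 → K) : K := ∑ i, (w (.inl i) ^ 2 - w (.inl i) * w (.inr i) + w (.inr i) ^ 2)

theorem exists_neg_one [Fintype K] (h3 : (3 : K) ≠ 0) : ∃ σ τ : K, σ ^ 2 - σ * τ + τ ^ 2 = -1 := by
  by_cases h2 : ringChar K = 2
  · have : CharP K 2 := h2 ▸ ringChar.charP K
    exact ⟨1, 0, by rw [CharTwo.neg_eq]; ring⟩
  · obtain ⟨a, b, h⟩ := FiniteField.exists_root_sum_quadratic (f := (Polynomial.X ^ 2 : Polynomial K))
      (g := Polynomial.C 3 * Polynomial.X ^ 2 + Polynomial.C 1) (by compute_degree!) (by compute_degree!)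
      (FiniteField.odd_card_of_char_ne_two h2)
    simp only [Polynomial.eval_pow, Polynomial.eval_X, Polynomial.eval_add, Polynomial.eval_mul, Polynomial.eval_C] at h
    exact ⟨a + b, 2 * b, by linear_combination h⟩

/-- the two forms are isometric -/
theorem exists_psi [Fintype K] (h3 : (3 : K) ≠ 0) :
    ∃ ψ : (I8 → K) ≃ₗ[K] (I8 → K), ∀ w, plusForm 4 K (ψ w) = nf w := by
  obtain ⟨σ, τ, h⟩ := exists_neg_one h3
  let S : (I8 → K) → Fin 4 → K := fun w i => σ * w (.inl i) - τ * w (.inr i)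
  let U : (I8 → K) → Fin 4 → K := fun w i => σ * w (.inr i) + τ * w (.inl i) - τ * w (.inr i)
  let f : (I8 → K) → I8 → K := fun w =>
    Sum.elim ![w (.inl 0) - S w 1, w (.inr 0) - U w 1, w (.inl 2) - S w 3, w (.inr 2) - U w 3]
      ![w (.inl 0) - w (.inr 0) + S w 1, w (.inr 0) - S w 1 + U w 1, w (.inl 2) - w (.inr 2) + S w 3,
        w (.inr 2) - S w 3 + U w 3]
  have h1 : IsLinearMap K f := ⟨fun v w => by
    funext a
    rcases a with i | i <;> fin_cases i <;> simp [f, S, U] <;> ring, fun t w => by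
    funext a
    rcases a with i | i <;> fin_cases i <;> simp [f, S, U] <;> ring⟩
  have h2 : ∀ s t s' t' : K, s - (σ * s' - τ * t') = 0 → t - (σ * t' + τ * s' - τ * t') = 0 →
      s - t + (σ * s' - τ * t') = 0 → t - (σ * s' - τ * t') + (σ * t' + τ * s' - τ * t') = 0 →
      s = 0 ∧ t = 0 ∧ s' = 0 ∧ t' = 0 := fun s t s' t' a b c d => by
    have e1 : s = 0 := (mul_eq_zero.1 (by linear_combination a + b + 2 * c + d : 3 * s = 0)).resolve_left h3
    have e2 : t = 0 := by linear_combination 2 * e1 - a - c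
    refine ⟨e1, e2, ?_, ?_⟩
    · linear_combination s' * h + (σ - τ) * (a - e1) + τ * (b - e2)
    · linear_combination t' * h - τ * (a - e1) + σ * (b - e2)
  refine ⟨LinearEquiv.ofInjectiveEndo (h1.mk' f) ((injective_iff_map_eq_zero _).2 fun w hw => ?_), fun w => ?_⟩
  · obtain ⟨a1, a2, a3, a4⟩ := h2 _ _ _ _ (congrFun hw (.inl 0)) (congrFun hw (.inl 1)) (congrFun hw (.inr 0))
      (congrFun hw (.inr 1))
    obtain ⟨b1, b2, b3, b4⟩ := h2 _ _ _ _ (congrFun hw (.inl 2)) (congrFun hw (.inl 3)) (congrFun hw (.inr 2))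
      (congrFun hw (.inr 3))
    funext a
    rcases a with i | i <;> fin_cases i
    exacts [a1, a3, b1, b3, a2, a4, b2, b4]
  · change plusForm 4 K (f w) = _
    rw [coe_plusForm, quadFormPlus_apply, nf, Fin.sum_univ_four, Fin.sum_univ_four]
    simp only [f, S, U, Sum.elim_inl, Sum.elim_inr, cons_val]
    linear_combination -(w (.inl 1) ^ 2 - w (.inl 1) * w (.inr 1) + w (.inr 1) ^ 2 +
      (w (.inl 3) ^ 2 - w (.inl 3) * w (.inr 3) + w (.inr 3) ^ 2)) * h

end ground

section ext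

variable (K : Type) [Field K] {F : Type} [Field F] [Algebra K F] {ω : F}

/-- the ring `K[ω]` -/
def RK (h : Om ω) : Subring (F × F) where
  carrier := {z | ∃ s t : K, z = (algebraMap K F s + algebraMap K F t * ω, algebraMap K F s + algebraMap K F t * ω ^ 2)}
  mul_mem' := by
    rintro _ _ ⟨s, t, rfl⟩ ⟨s', t', rfl⟩
    refine ⟨s * s' - t * t', s * t' + t * s' - t * t', Prod.ext ?_ ?_⟩ <;>
      simp only [Prod.mk_mul_mk, map_add, map_sub, map_mul]
    · linear_combination (algebraMap K F t * algebraMap K F t') * h.eq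
    · linear_combination (algebraMap K F t * algebraMap K F t') * (ω ^ 2 - ω + 1) * h.eq
  one_mem' := ⟨1, 0, by simp [Prod.ext_iff]⟩
  add_mem' := by
    rintro _ _ ⟨s, t, rfl⟩ ⟨s', t', rfl⟩
    refine ⟨s + s', t + t', Prod.ext ?_ ?_⟩ <;> simp only [Prod.mk_add_mk, map_add] <;> ring
  zero_mem' := ⟨0, 0, by simp [Prod.ext_iff]⟩
  neg_mem' := by
    rintro _ ⟨s, t, rfl⟩
    refine ⟨-s, -t, Prod.ext ?_ ?_⟩ <;> simp only [Prod.neg_mk, map_neg] <;> ring

theorem rw_RK (h : Om ω) : Rw ω (RK K h) := ⟨⟨0, 1, by simp⟩, by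
  rintro a b ⟨s, t, e⟩
  obtain ⟨rfl, rfl⟩ := Prod.ext_iff.1 e
  refine ⟨s - t, -t, Prod.ext ?_ ?_⟩ <;> simp only [map_sub, map_neg]
  · linear_combination algebraMap K F t * h.eq
  · linear_combination algebraMap K F t * h.eq⟩

variable {K}

/-- change of coordinates -/
def PP (ω : F) : M8 F := fromBlocks 1 (ω • 1) 1 (ω ^ 2 • 1)

/-- the inverse -/
def PQ (ω : F) : M8 F := (ω ^ 2 - ω)⁻¹ • fromBlocks (ω ^ 2 • 1) (-ω • 1) (-1) 1

theorem PP_mul (h : Om ω) : PP ω * PQ ω = 1 := by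
  have h0 : ω ^ 2 - ω ≠ 0 := sub_ne_zero.2 h.ne_sq.symm
  rw [PP, PQ, mul_smul_comm, fromBlocks_multiply, fromBlocks_smul, ← fromBlocks_one]
  congr 1
  · rw [one_mul, mul_neg, mul_one, ← sub_eq_add_neg, ← sub_smul, smul_smul, inv_mul_cancel₀ h0, one_smul]
  · simp
  · simp
  · rw [one_mul, mul_one, ← add_smul, smul_smul, neg_add_eq_sub, inv_mul_cancel₀ h0, one_smul]

theorem PQ_mul (h : Om ω) : PQ ω * PP ω = 1 := mul_eq_one_comm.1 (PP_mul h)

/-- the coordinates over the extension -/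
def th (ω : F) (w : I8 → K) : I8 → F := PP ω *ᵥ (algebraMap K F ∘ w)

theorem th_inl (w : I8 → K) (i : Fin 4) :
    th ω w (.inl i) = algebraMap K F (w (.inl i)) + algebraMap K F (w (.inr i)) * ω := by
  simp [th, PP, fromBlocks_mulVec, smul_mulVec, mul_comm]

theorem th_inr (w : I8 → K) (i : Fin 4) :
    th ω w (.inr i) = algebraMap K F (w (.inl i)) + algebraMap K F (w (.inr i)) * ω ^ 2 := by
  simp [th, PP, fromBlocks_mulVec, smul_mulVec, mul_comm]

theorem th_add (v w : I8 → K) : th ω (v + w) = th ω v + th ω w := by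
  rw [th, th, th, ← mulVec_add]
  exact congrArg _ (funext fun a => map_add _ _ _)

theorem th_smul (t : K) (w : I8 → K) : th ω (t • w) = algebraMap K F t • th ω w := by
  rw [th, th, ← mulVec_smul]
  exact congrArg _ (funext fun a => map_mul _ _ _)

theorem th_inj (h : Om ω) : Function.Injective (th ω : (I8 → K) → I8 → F) := fun v w e => by
  have h1 := congrArg (PQ ω *ᵥ ·) e
  simp only [th, mulVec_mulVec, PQ_mul h, one_mulVec] at h1
  exact funext fun a => (algebraMap K F).injective (congrFun h1 a)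

theorem qf_th (h : Om ω) (w : I8 → K) : qf (th ω w) = algebraMap K F (nf w) := by
  rw [qf, nf, map_sum]
  refine Finset.sum_congr rfl fun i _ => ?_
  simp only [th_inl, th_inr, map_add, map_sub, map_mul, map_pow]
  linear_combination (algebraMap K F (w (.inl i)) * algebraMap K F (w (.inr i))) * h.eq +
    algebraMap K F (w (.inr i)) ^ 2 * h.cube

theorem th_mem (h : Om ω) (w : I8 → K) (a : I8) : (th ω w a, th ω w a.swap) ∈ RK K h := by
  have h1 : ∀ i, (th ω w (.inl i), th ω w (.inr i)) ∈ RK K h := fun i => ⟨_, _, Prod.ext (th_inl w i) (th_inr w i)⟩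
  rcases a with i | i
  exacts [h1 i, (rw_RK K h).sw _ _ (h1 i)]

theorem exists_th (h : Om ω) {Y : I8 → F} (hY : ∀ i, (Y (.inl i), Y (.inr i)) ∈ RK K h) : ∃ w : I8 → K, th ω w = Y := by
  choose s t e using hY
  refine ⟨Sum.elim s t, funext fun a => ?_⟩
  rcases a with i | i
  · rw [th_inl]; exact (congrArg Prod.fst (e i)).symm
  · rw [th_inr]; exact (congrArg Prod.snd (e i)).symm

theorem ind_th (h : Om ω) {P : (I8 → F) → Prop} (h0 : P 0) (h1 : ∀ Y Z, P Y → P Z → P (Y + Z))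
    (h2 : ∀ (t : F) Y, P Y → P (t • Y)) (h3 : ∀ w : I8 → K, P (th ω w)) (Y : I8 → F) : P Y := by
  rw [← one_mulVec Y, ← PP_mul h, ← mulVec_mulVec, pi_eq_sum_univ' (PQ ω *ᵥ Y), mulVec_sum]
  refine Finset.sum_induction _ P h1 h0 fun a _ => ?_
  rw [mulVec_smul]
  refine h2 _ _ (cast (congrArg P (congrArg _ (funext fun b => ?_))) (h3 (Pi.single a 1)))
  simp [Pi.single_apply]

theorem ext_th (h : Om ω) {M N : M8 F} (e : ∀ w : I8 → K, M *ᵥ th ω w = N *ᵥ th ω w) : M = N :=
  ext_mulVec (ind_th h (by rw [mulVec_zero, mulVec_zero]) (fun Y Z a b => by rw [mulVec_add, mulVec_add, a, b])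
    (fun t Y a => by rw [mulVec_smul, mulVec_smul, a]) e)

theorem iso_of_th (h : Om ω) {M : M8 F} (e : ∀ w : I8 → K, qf (M *ᵥ th ω w) = qf (th ω w)) : Iso M := by
  have z : ∀ Z : I8 → F, bf 0 Z = 0 := fun Z => by simp [bf]
  have h1 : ∀ (Z : I8 → F), (∀ w : I8 → K, bf (M *ᵥ th ω w) (M *ᵥ Z) = bf (th ω w) Z) →
      ∀ Y, bf (M *ᵥ Y) (M *ᵥ Z) = bf Y Z := fun Z hZ => ind_th h (by rw [mulVec_zero, z, z])
    (fun Y Y' a b => by rw [mulVec_add, bf_add, bf_add, a, b]) (fun t Y a => by rw [mulVec_smul, bf_smul, bf_smul, a]) hZ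
  have h2 : ∀ Z Y, bf (M *ᵥ Y) (M *ᵥ Z) = bf Y Z := fun Z => h1 Z fun w => by
    rw [bf_comm, bf_comm (th ω w)]
    refine h1 _ (fun v => ?_) Z
    have := e (v + w)
    rw [th_add, mulVec_add, qf_add, qf_add, e, e] at this
    exact add_left_cancel this
  exact ind_th h (by rw [mulVec_zero]) (fun Y Z a b => by rw [mulVec_add, qf_add, qf_add, a, b, h2])
    (fun t Y a => by rw [mulVec_smul, qf_smul, qf_smul, a]) e

/-- the matrix of a linear map -/
noncomputable def mat (ω : F) (f : (I8 → K) →ₗ[K] (I8 → K)) : M8 F :=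
  PP ω * (LinearMap.toMatrix' f).map (algebraMap K F) * PQ ω

theorem mat_th (h : Om ω) (f : (I8 → K) →ₗ[K] (I8 → K)) (w : I8 → K) : mat ω f *ᵥ th ω w = th ω (f w) := by
  rw [mat, th, th, mulVec_mulVec, mul_assoc, PQ_mul h, mul_one, ← mulVec_mulVec]
  refine congrArg _ (funext fun a => ?_)
  rw [← RingHom.map_mulVec, LinearMap.toMatrix'_mulVec]
  rfl

theorem card_fix (h : Om ω) (d : W3) :
    Nat.card {w : I8 → K // dg ω d *ᵥ th ω w = th ω w} = Nat.card K ^ Fintype.card {a : I8 // ¬ d (ix a) ≠ 0} := by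
  rw [← Nat.card_eq_fintype_card, ← Nat.card_fun]
  refine Nat.card_congr ((Equiv.subtypeEquivRight fun w => ?_).trans
    (Equiv.subtypePreimage (fun a : I8 => d (ix a) ≠ 0) (fun _ => (0 : K))))
  have h1 : ∀ a, wt a d = 0 ↔ d (ix a) = 0 := fun a => by
    rcases a with i | i
    exacts [Iff.rfl, neg_eq_zero]
  have h2 : dg ω d *ᵥ th ω w = th ω w ↔ ∀ a, d (ix a) ≠ 0 → th ω w a = 0 := by
    rw [funext_iff]
    refine forall_congr' fun a => ?_
    rw [dg, mulVec_diagonal]
    refine ⟨fun e h0 => ?_, fun e => ?_⟩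
    · by_contra e'
      exact h0 ((h1 a).1 (h.eq_zero_of_om (mul_left_eq_self₀.1 e |>.resolve_right e')))
    · by_cases h0 : d (ix a) = 0
      · rw [(h1 a).2 h0, om_zero, one_mul]
      · rw [e h0, mul_zero]
  rw [h2, funext_iff, Subtype.forall]
  refine ⟨fun e a h0 => ?_, fun e a h0 => ?_⟩
  · have a1 := e (.inl (ix a)) h0
    have a2 := e (.inr (ix a)) h0
    rw [th_inl] at a1
    rw [th_inr] at a2
    have a3 : algebraMap K F (w (.inr (ix a))) = 0 :=
      (mul_eq_zero.1 (by linear_combination a1 - a2)).resolve_right (sub_ne_zero.2 h.ne_sq)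
    rw [a3, zero_mul, add_zero] at a1
    rcases a with i | i
    exacts [(map_eq_zero _).1 a1, (map_eq_zero _).1 a3]
  · have a1 : w (.inl (ix a)) = 0 := e (.inl (ix a)) h0
    have a2 : w (.inr (ix a)) = 0 := e (.inr (ix a)) h0
    rcases a with i | i
    · rw [th_inl, show w (.inl i) = 0 from a1, show w (.inr i) = 0 from a2, map_zero, zero_mul, add_zero]
    · rw [th_inr, show w (.inl i) = 0 from a1, show w (.inr i) = 0 from a2, map_zero, zero_mul, add_zero]

end ext

theorem weight_one : ∀ c : W3, Fintype.card {a : I8 // ¬ (c + c) (ix a) ≠ 0} = 6 ↔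
    ∃ i, ∃ s : ZMod 3, s ≠ 0 ∧ c = s • e3 i := by decide +kernel

/-- the automorphisms induced on the socle -/
def indH {G X : Type} [Group G] [Group X] {T : Subgroup G} (hT : T.Normal) (e : T ≃* X) : G →* MulAut X :=
  (MulAut.congr e).toMonoidHom.comp (MulAut.conjNormal (H := T))

theorem indH_mem {G X : Type} [Group G] [Group X] {T : Subgroup G} (hT : T.Normal) (e : T ≃* X) (t : T) :
    indH hT e t = MulAut.conj (e t) := by
  refine MulEquiv.ext fun x => ?_
  obtain ⟨s, rfl⟩ := e.surjective x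
  change e (MulAut.conjNormal (t : G) (e.symm (e s))) = e t * e s * (e t)⁻¹
  rw [e.symm_apply_apply, ← map_mul, ← map_inv, ← map_mul]
  rfl

theorem conj_mem_range {K V : Type} [Field K] [AddCommGroup V] [Module K V] {Q : QuadraticForm K V}
    (x : ↥(E Q) ⧸ Subgroup.center ↥(E Q)) : MulAut.conj x ∈ (Psi Q).range := by
  induction x using QuotientGroup.induction_on with
  | _ g =>
  refine ⟨⟨g.1.toEquiv, RingEquiv.refl K, 1, one_ne_zero, map_add g.1, map_smul g.1, fun v => ?_⟩, ?_⟩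
  · rw [one_mul]
    exact E_le_O g.2 v
  · refine MulEquiv.ext fun y => ?_
    induction y using QuotientGroup.induction_on with
    | _ k => rfl

/-- **the model** -/
theorem exists_dat {G : Type} [Group G] {T : Subgroup G} (hT : T.Normal) {K : Type} [Field K] [Fintype K]
    (h3 : (3 : K) ≠ 0) (e : T ≃* ↥(E (plusForm 4 K)) ⧸ Subgroup.center ↥(E (plusForm 4 K))) :
    Nonempty (Dat T (E (plusForm 4 K)) (AlgebraicClosure K)) := by
  have hG : LieClassical.OrthTrans.Good (plusForm 4 K) := good_plus (by norm_num)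
  obtain ⟨ω, hω⟩ := IsAlgClosed.exists_root (Polynomial.X ^ 2 + Polynomial.X + 1 : Polynomial (AlgebraicClosure K))
    (by rw [show (Polynomial.X ^ 2 + Polynomial.X + 1 : Polynomial (AlgebraicClosure K)).degree = 2 by compute_degree!]
        decide)
  have h : Om ω := ⟨by simpa using hω, fun e => h3 ((algebraMap K (AlgebraicClosure K)).injective (by
    rw [map_zero, map_ofNat, e]))⟩
  obtain ⟨ψ, hψ⟩ := exists_psi h3
  let Φ : (I8 → K) → I8 → AlgebraicClosure K := fun v => th ω (ψ.symm v)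
  have Φinj : Function.Injective Φ := (th_inj h).comp ψ.symm.injective
  have Φq : ∀ v, qf (Φ v) = algebraMap K _ (plusForm 4 K v) := fun v => by
    rw [qf_th h, ← hψ, ψ.apply_symm_apply]
  have Φs : ∀ (t : K) v, Φ (t • v) = algebraMap K (AlgebraicClosure K) t • Φ v := fun t v => by
    simp only [Φ, map_smul, th_smul]
  have Φext : ∀ {M N : M8 (AlgebraicClosure K)}, (∀ v, M *ᵥ Φ v = N *ᵥ Φ v) → M = N := fun e =>
    ext_th h fun w => by simpa only [Φ, ψ.symm_apply_apply] using e (ψ w)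
  let ρ₀ : ((I8 → K) ≃ₗ[K] (I8 → K)) → M8 (AlgebraicClosure K) := fun g =>
    mat ω (ψ.symm.toLinearMap ∘ₗ g.toLinearMap ∘ₗ ψ.toLinearMap)
  have hρ₀ : ∀ g v, ρ₀ g *ᵥ Φ v = Φ (g v) := fun g v => by
    simp only [ρ₀, Φ, mat_th h, LinearMap.comp_apply, LinearEquiv.coe_coe, ψ.apply_symm_apply]
  let ρ : E (plusForm 4 K) →* M8 (AlgebraicClosure K) :=
    { toFun := fun g => ρ₀ g
      map_one' := Φext fun v => by rw [hρ₀, one_mulVec]; rfl
      map_mul' := fun a b => Φext fun v => by rw [hρ₀, ← mulVec_mulVec, hρ₀, hρ₀]; rfl }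
  have hρ : ∀ (g : E (plusForm 4 K)) v, ρ g *ᵥ Φ v = Φ (g.1 v) := fun g => hρ₀ g
  have hinj : Function.Injective ρ := fun a b e => Subtype.ext (LinearEquiv.ext fun v => Φinj (by
    rw [← hρ, ← hρ, e]))
  let π : E (plusForm 4 K) →* G := T.subtype.comp (e.symm.toMonoidHom.comp (QuotientGroup.mk' _))
  have hπ : ∀ g, π g = 1 ↔ g ∈ Subgroup.center (E (plusForm 4 K)) := fun g => by
    rw [← QuotientGroup.eq_one_iff, ← map_eq_one_iff _ e.symm.injective, ← map_eq_one_iff _ T.subtype_injective]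
    rfl
  have hker : ∀ g, π g = 1 ↔ ρ g = 1 ∨ ρ g = -1 := fun g => by
    rw [hπ]
    refine ⟨fun hg => ?_, fun hg => ?_⟩
    · obtain ⟨t, ht⟩ := OrthAut1.center_scalar hG hg
      have h1 := E_le_O g.2 (ψ (Pi.single (.inl 0) 1))
      rw [ht, QuadraticMap.map_smul, hψ, show nf (Pi.single (.inl 0) 1 : I8 → K) = 1 by simp [nf, Fin.sum_univ_four],
        smul_eq_mul, mul_one, mul_self_eq_one_iff] at h1
      refine h1.imp (fun e => Φext fun v => ?_) fun e => Φext fun v => ?_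
      · rw [hρ, ht, e, one_smul, one_mulVec]
      · rw [hρ, ht, e, Φs, map_neg, map_one, neg_mulVec, one_mulVec, neg_one_smul]
    · rcases hg with e | e
      · rw [hinj (e.trans (map_one ρ).symm)]
        exact one_mem _
      · refine OrthAut1.mem_center_of_scalar (c := -1) fun v => Φinj ?_
        rw [← hρ, e, Φs, map_neg, map_one, neg_mulVec, one_mulVec, neg_one_smul]
  obtain ⟨σ, τ, hστ⟩ := exists_neg_one h3
  refine ⟨{ ω := ω, R := RK K h, ρ := ρ, π := π, G₀ := (Psi (plusForm 4 K)).range.comap (indH hT e),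
            X := {t | ∃ g, π g = t ∧ Nat.card {v // (g * g).1 v = v} = Nat.card K ^ 6},
            om := h, rw := rw_RK K h, neg := ⟨_, _, ⟨σ, τ, rfl⟩, ?_⟩, inj := hinj, iso := fun g => ?_,
            mem := fun g => Subtype.prop _, surj := fun t ht => ?_, ker := hker, ex := fun N h1 h2 => ?_,
            le := fun t ht => ?_, idx := ?_, inv := ?_, xx := fun g c hg => ?_ }⟩
  · have h1 := congrArg (algebraMap K (AlgebraicClosure K)) hστ
    simp only [map_add, map_sub, map_mul, map_pow, map_neg, map_one] at h1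
    linear_combination h1 + (algebraMap K _ σ * algebraMap K _ τ) * h.eq + algebraMap K _ τ ^ 2 * h.cube
  · refine iso_of_th (K := K) h fun w => ?_
    have h1 := Φq (g.1 (ψ w))
    rw [← hρ, E_le_O g.2, ← Φq] at h1
    simpa only [Φ, ψ.symm_apply_apply] using h1
  · obtain ⟨g, hg⟩ := QuotientGroup.mk_surjective (e ⟨t, ht⟩)
    exact ⟨g, congrArg Subtype.val ((congrArg e.symm hg).trans (e.symm_apply_apply _))⟩
  · have a1 : ∀ v, ∃ v', Φ v' = N *ᵥ Φ v := fun v => by
      obtain ⟨w, hw⟩ := exists_th (K := K) h (Y := N *ᵥ Φ v) fun i => by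
        have a2 : (N *ᵥ Φ v) (.inr i) = ∑ b, N (.inr i) (Sum.swap b) * Φ v (Sum.swap b) :=
          (Equiv.sum_comp (Equiv.sumComm (Fin 4) (Fin 4)) fun b => N (.inr i) b * Φ v b).symm
        rw [a2, mulVec, dotProduct, prod_mk_sum]
        exact Subring.sum_mem _ fun b _ => Subring.mul_mem _ (h2 (.inl i) b) (th_mem h _ b)
      exact ⟨ψ w, by simpa only [Φ, ψ.symm_apply_apply] using hw⟩
    choose f hf using a1
    have a2 : IsLinearMap K f := ⟨fun v w => Φinj (by
      simp only [Φ, map_add, th_add] at hf ⊢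
      rw [hf, hf, hf, map_add, th_add, mulVec_add]), fun t v => Φinj (by rw [Φs, hf, hf, Φs, mulVec_smul])⟩
    have a3 : Function.Injective (a2.mk' f) := fun v w e => Φinj (by
      rw [← one_mulVec (Φ v), ← one_mulVec (Φ w), ← h1.adj_mul, ← mulVec_mulVec, ← mulVec_mulVec, ← hf, ← hf]
      exact congrArg (fun z => adj N *ᵥ Φ z) e)
    refine ⟨⟨_, H875.KB.sq_mem_E hG (g := LinearEquiv.ofInjectiveEndo _ a3) fun v =>
      (algebraMap K (AlgebraicClosure K)).injective ?_⟩, Φext fun v => ?_⟩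
    · rw [← Φq, ← Φq, ← h1 (Φ v), ← hf]
      rfl
    · rw [hρ, ← mulVec_mulVec, ← hf, ← hf]
      rfl
  · rw [Subgroup.mem_comap, indH_mem hT e ⟨t, ht⟩]
    exact conj_mem_range _
  · rw [Subgroup.index_comap, ← AutOrth.Final.index_plus_four (F := K), ← Subgroup.relIndex_top_right (H := _root_.MonoidHom.range _)]
    exact Subgroup.relIndex_le_of_le_right le_top (by
      rw [Subgroup.relIndex_top_right, AutOrth.Final.index_plus_four]; decide)
  · rintro k ⟨M, hM⟩ _ ⟨g, rfl, hg⟩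
    refine ⟨conjE _ M g, ?_, ?_⟩
    · have a1 := DFunLike.congr_fun hM (QuotientGroup.mk g)
      rw [Psi_mk] at a1
      exact congrArg Subtype.val ((congrArg e.symm a1).trans (e.symm_apply_apply _))
    · rw [← hg, ← map_mul]
      refine (Nat.card_congr (Equiv.subtypeEquiv M.1 fun v => ?_)).symm
      rw [coe_conjE, conjLin_apply', M.1.injective.eq_iff]
  · have a1 : ∀ g' : E (plusForm 4 K), π g' = π g → g' * g' = g * g := fun g' e => by
      have a2 : π (g' * g⁻¹) = 1 := by rw [map_mul, map_inv, e, mul_inv_cancel]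
      refine hinj ?_
      rw [← inv_mul_cancel_right g' g, map_mul, map_mul ρ (g' * g⁻¹), map_mul ρ g]
      rcases (hker _).1 a2 with e | e <;> simp [e]
    have a2 : Nat.card {v // (g * g).1 v = v} = Nat.card K ^ Fintype.card {a : I8 // ¬ (c + c) (ix a) ≠ 0} := by
      rw [← card_fix (K := K) h]
      refine Nat.card_congr (Equiv.subtypeEquiv ψ.symm.toEquiv fun v => ?_)
      rw [← Φinj.eq_iff, ← hρ, map_mul, hg, h.dg_mul]
      rfl
    rw [← weight_one, ← (Nat.pow_right_injective (Finite.one_lt_card (α := K))).eq_iff, ← a2]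
    exact ⟨fun ⟨g', e, a⟩ => by rwa [a1 g' e] at a, fun a => ⟨g, rfl, a⟩⟩

end Cfsg.Agent.TH.Cl.D4
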