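import Cfsg.Agent.TH.Cl.Br.Tr
import Cfsg.Agent.TH.Red
import Cfsg.Agent.Solvable.FrobeniusTheorem

/-!
# S3541: passage to a subgroup of prime index which contains the socle (helper60)

`lieCtx_sub` : if `T ≤ G₀`, the index `r` of `G₀` is a prime and `r ∤ d`, the standing hypotheses hold for `G₀`.
-/

set_option autoImplicit false

namespace Cfsg.Agent.TH.Cl.D4

open MulAction

variable {G : Type} [Group G] [Finite G] {T H G₀ : Subgroup G} {m p : ℕ}

/-- the socle is not a Frobenius group -/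
theorem exists_inf_ne_bot (hT : AS T) (hH : Half H m) : ∃ t ∈ T, t ∉ H ∧ H ⊓ cj t H ⊓ T ≠ ⊥ := by
  by_contra h
  push Not at h
  have h1 : H.subgroupOf T ≠ ⊥ := fun e => hT.inf_ne_bot hH (by rwa [Subgroup.subgroupOf_eq_bot, disjoint_iff] at e)
  have h2 : H.subgroupOf T ≠ ⊤ := fun e => hT.not_le hH (Subgroup.subgroupOf_eq_top.1 e)
  obtain ⟨N, -, hN, hc⟩ := Solvable.FrobeniusTheorem.frobenius (H := H.subgroupOf T) ⟨h1, h2, fun g hg => by
    refine eq_bot_iff.2 fun x hx => Subtype.ext ?_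
    have h3 : x ∈ cj g (H.subgroupOf T) := hx.2
    rw [In.cj_sub] at h3
    exact (h g g.2 hg).le ⟨⟨hx.1, h3⟩, x.2⟩⟩
  rcases hT.simple.eq_bot_or_eq_top_of_normal N hN with rfl | rfl
  · exact h2 (Subgroup.isComplement'_bot_left.1 hc)
  · exact h1 (Subgroup.isComplement'_top_left.1 hc)

omit [Finite G] in
theorem as_sub (hT : AS T) (h : T ≤ G₀) : AS (T.subgroupOf G₀) where
  normal := hT.normal.subgroupOf G₀
  simple := by
    have := hT.simple
    exact (Subgroup.subgroupOfEquivOfLe h).isSimpleGroup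
  nonab := fun e => hT.nonab ⟨⟨fun a b => (Subgroup.subgroupOfEquivOfLe h).symm.injective (by
    rw [map_mul, map_mul]; exact e.1.1 _ _)⟩⟩
  cent := eq_bot_iff.2 fun x hx => Subtype.ext (hT.cent.le fun t ht => congrArg Subtype.val (hx ⟨t, h ht⟩ ht))

theorem half_sub (hT : AS T) (hH : Half H m) (h : T ≤ G₀) {k : ℕ}
    (hk : ∀ g, g ∉ H → Nat.card ↥(H ⊓ cj g H ⊓ G₀) = k) : Half (H.subgroupOf G₀) k := by
  have h1 : ∀ g : G₀, g ∉ H.subgroupOf G₀ → Nat.card ↥(H.subgroupOf G₀ ⊓ cj g (H.subgroupOf G₀)) = k := fun g hg => by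
    rw [← hk g hg, In.cj_sub, ← In.card_sub (G := G₀) inf_le_right, Subgroup.inf_subgroupOf_right]
    rfl
  obtain ⟨t, ht, ht', h2⟩ := exists_inf_ne_bot hT hH
  have h3 : (H.subgroupOf G₀).normalCore = ⊥ := by
    have a1 : ∀ x ∈ (H.subgroupOf G₀).normalCore, x ∈ T.subgroupOf G₀ → x = 1 := fun x hx hx' => by
      rcases (as_sub hT h).simple.eq_bot_or_eq_top_of_normal
        ((H.subgroupOf G₀).normalCore.subgroupOf (T.subgroupOf G₀)) inferInstance with e | e
      · exact congrArg Subtype.val (e.le (show (⟨x, hx'⟩ : T.subgroupOf G₀) ∈ _ from hx))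
      · exact absurd (fun y hy => (H.subgroupOf G₀).normalCore_le
          (Subgroup.subgroupOf_eq_top.1 e (show (⟨y, h hy⟩ : G₀) ∈ _ from hy))) (hT.not_le hH)
    refine eq_bot_iff.2 fun x hx => (as_sub hT h).cent.le fun y hy => ?_
    refine mul_inv_eq_iff_eq_mul.1 (mul_inv_eq_one.1 (a1 _ ?_ ?_))
    · exact mul_mem ((H.subgroupOf G₀).normalCore_normal.conj_mem x hx y) (inv_mem hx)
    · have := mul_mem hy ((as_sub hT h).normal.conj_mem _ (inv_mem hy) x)
      simpa only [mul_assoc] using this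
  obtain ⟨x, hx, hx1⟩ := (Subgroup.bot_or_exists_ne_one _).resolve_left h2
  have h4 : (⟨x, h hx.2⟩ : G₀) ∈ H.subgroupOf G₀ ⊓ cj ⟨t, h ht⟩ (H.subgroupOf G₀) :=
    ⟨hx.1.1, by rw [In.cj_sub]; exact hx.1.2⟩
  have h5 : ((1 : G₀) : G₀ ⧸ H.subgroupOf G₀) ≠ ((⟨t, h ht⟩ : G₀) : G₀ ⧸ H.subgroupOf G₀) :=
    fun e => ht' ((coe_eq_one_iff (H := H.subgroupOf G₀) _).1 e.symm)
  refine ⟨?_, h3, h1, ?_, ?_⟩
  · rcases PermutationGroups.TwoTransitiveNormal.isPreprimitive_or_of_card_inf_stabilizer_eq (G := G₀)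
      (X := G₀ ⧸ H.subgroupOf G₀) (m := k) (fun a b hab => by
        induction a using QuotientGroup.induction_on with
        | _ a =>
        induction b using QuotientGroup.induction_on with
        | _ b =>
        rw [stabilizer_coe, stabilizer_coe, ← h1 (a⁻¹ * b) fun e => hab (QuotientGroup.eq.2 e),
          ← card_cj a (_ ⊓ cj (a⁻¹ * b) _), cj_inf, ← cj_mul, mul_inv_cancel_left]) with h6 | h6
    · have : Nontrivial (G₀ ⧸ H.subgroupOf G₀) := ⟨_, _, h5⟩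
      have h7 := (isCoatom_stabilizer_iff_preprimitive G₀ ((1 : G₀) : G₀ ⧸ H.subgroupOf G₀)).2 h6
      rwa [stabilizer_coe, cj_one] at h7
    · have h7 := h6 _ _ h5 ⟨x, h hx.2⟩ (by rwa [stabilizer_coe, stabilizer_coe, cj_one])
      refine absurd (congrArg Subtype.val (h3.le ((le_normalCore_iff (N := Subgroup.zpowers _)).2 (fun g => ?_)
        (Subgroup.mem_zpowers (⟨x, h hx.2⟩ : G₀))))) hx1
      exact Subgroup.zpowers_le.2 ((smul_coe_eq_iff _ g).1 (h7 g))
  · rw [← h1 ⟨t, h ht⟩ ht', Subgroup.one_lt_card_iff_ne_bot]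
    exact fun e => hx1 (congrArg Subtype.val (e.le h4))
  · obtain ⟨g, g', hg, hg', h6⟩ := hH.not_two
    obtain ⟨a, ha, s, hs, rfl⟩ := hT.exists_mul hH g
    obtain ⟨a', ha', s', hs', rfl⟩ := hT.exists_mul hH g'
    refine ⟨⟨s, h hs⟩, ⟨s', h hs'⟩, fun e => hg (mul_mem ha e), fun e => hg' (mul_mem ha' e), fun b hb b' hb' e => ?_⟩
    refine h6 (a' * b * a⁻¹) (mul_mem (mul_mem ha' hb) (inv_mem ha)) b' hb' ?_
    rw [show s' = b * s * b' from congrArg Subtype.val e]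
    group

theorem relIndex_sub (hT : AS T) (hH : Half H m) (h : T ≤ G₀) : G₀.relIndex H = G₀.index := by
  have h1 : H.relIndex G₀ = H.index := le_antisymm
    (H.relIndex_top_right ▸ Subgroup.relIndex_le_of_le_right le_top Subgroup.index_ne_zero_of_finite)
    (hT.relIndex_eq hH ▸ Subgroup.relIndex_le_of_le_right h Subgroup.index_ne_zero_of_finite)
  have h2 := Subgroup.relIndex_mul_index (inf_le_left : H ⊓ G₀ ≤ H)
  rw [← Subgroup.relIndex_mul_index (inf_le_right : H ⊓ G₀ ≤ G₀), Subgroup.inf_relIndex_left,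
    Subgroup.inf_relIndex_right, h1, mul_comm] at h2
  exact Nat.eq_of_mul_eq_mul_left hH.index_pos h2

theorem card_inf_sub (hT : AS T) (hH : Half H m) (h : T ≤ G₀) (hr : G₀.index.Prime) (hd : ¬ G₀.index ∣ Nat.card H / m)
    (g : G) (hg : g ∉ H) : Nat.card ↥(H ⊓ cj g H ⊓ G₀) = m / G₀.index := by
  have h1 := Subgroup.relIndex_mul_relIndex (H ⊓ cj g H ⊓ G₀) (H ⊓ cj g H) H inf_le_left inf_le_left
  rw [← Subgroup.relIndex_mul_relIndex (H ⊓ cj g H ⊓ G₀) (H ⊓ G₀) H (inf_le_inf_right _ inf_le_left) inf_le_left,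
    Subgroup.inf_relIndex_left, Subgroup.inf_relIndex_left, Subgroup.inf_relIndex_left, relIndex_sub hT hH h,
    hH.relIndex_eq hg] at h1
  have h2 : G₀.relIndex (H ⊓ cj g H) = G₀.index := le_antisymm
    (G₀.relIndex_top_right ▸ Subgroup.relIndex_le_of_le_right le_top Subgroup.index_ne_zero_of_finite)
    (Nat.le_of_dvd (Nat.pos_of_ne_zero Subgroup.index_ne_zero_of_finite)
      ((hr.dvd_mul.1 (h1 ▸ Dvd.intro_left _ rfl)).resolve_right hd))
  rw [← hH.card_inf g hg, ← (G₀.subgroupOf (H ⊓ cj g H)).card_mul_index, ← Subgroup.relIndex, h2,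
    Nat.mul_div_cancel _ hr.pos, ← In.card_sub (G := H ⊓ cj g H) inf_le_left, Subgroup.inf_subgroupOf_left]

/-- **passage to a subgroup of prime index** -/
theorem lieCtx_sub (c : LieCtx T H m p) (h : T ≤ G₀) (hr : G₀.index.Prime) (hd : ¬ G₀.index ∣ Nat.card H / m) :
    LieCtx (T.subgroupOf G₀) (H.subgroupOf G₀) (m / G₀.index) p where
  as := as_sub c.as h
  half := half_sub c.as c.half h (card_inf_sub c.as c.half h hr hd)
  prime := c.prime
  lie := (CpQuot.Congr.isLieTypeChar_iff (Subgroup.subgroupOfEquivOfLe h).symm p).1 c.lie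
  notL2 := fun ⟨F, i1, i2, h', ⟨f⟩⟩ => c.notL2 ⟨F, i1, i2, h', ⟨(Subgroup.subgroupOfEquivOfLe h).symm.trans f⟩⟩
  notAlt := fun ⟨n, h', ⟨f⟩⟩ => c.notAlt ⟨n, h', ⟨(Subgroup.subgroupOfEquivOfLe h).symm.trans f⟩⟩

omit [Finite G] in
theorem hasOwn_of_sub (hN : ∀ x ∈ G₀, x ^ 2 ∈ G₀.normalCore) (h : HasOwn p (H.subgroupOf G₀)) : HasOwn p H := by
  obtain ⟨E, ⟨h1, h2⟩, h3⟩ := h
  let f : H.subgroupOf G₀ →* H := (G₀.subtype.comp (H.subgroupOf G₀).subtype).codRestrict H fun x => x.2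
  have hf : Function.Injective f := fun a b e => Subtype.ext (Subtype.ext (congrArg (fun x : H => (x : G)) e))
  let e := E.equivMapOfInjective f hf
  refine ⟨E.map f, ⟨?_, (CpQuot.Congr.isQuasisimple_iff e).1 h2⟩,
    (CpQuot.Congr.isLieTypeChar_iff (CpQuot.Congr.cq e) p).1 h3⟩
  refine Subgroup.IsSubnormal.trans (K := G₀.normalCore.subgroupOf H) ?_ ?_ (Subgroup.Normal.isSubnormal inferInstance)
  · rintro _ ⟨x, hx, rfl⟩
    have h4 : commutator E ≤ G₀.normalCore.comap ((H.subtype.comp f).comp E.subtype) :=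
      Subgroup.commutator_le.2 fun a _ b _ => by
        have := mul_mem (mul_mem (hN _ a.1.1.2) (hN _ (mul_mem (inv_mem a.1.1.2) b.1.1.2))) (inv_mem (hN _ b.1.1.2))
        rwa [show (a.1.1.1 ^ 2 * (a.1.1.1⁻¹ * b.1.1.1) ^ 2 * (b.1.1.1 ^ 2)⁻¹ : G) =
          a.1.1.1 * b.1.1.1 * a.1.1.1⁻¹ * b.1.1.1⁻¹ by simp only [pow_two]; group] at this
    exact h4 (h2.1.commutator_eq_top.ge (Subgroup.mem_top (⟨x, hx⟩ : E)))
  · let j : G₀.normalCore.subgroupOf H →* H.subgroupOf G₀ :=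
      { toFun := fun x => ⟨⟨x.1.1, G₀.normalCore_le x.2⟩, x.1.2⟩, map_one' := rfl, map_mul' := fun _ _ => rfl }
    have h4 : (E.map f).subgroupOf (G₀.normalCore.subgroupOf H) = E.comap j :=
      Subgroup.ext fun x => Subgroup.mem_map_iff_mem (x := j x) hf
    exact h4 ▸ h1.comap j

theorem sq_mem_core (h : G₀.index = 3) (x : G) (hx : x ∈ G₀) : x ^ 2 ∈ G₀.normalCore := by
  have h1 : G₀.normalCore.index ∣ 2 * 3 := by
    rw [Subgroup.normalCore_eq_ker, Subgroup.index_ker]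
    refine (Subgroup.card_subgroup_dvd_card _).trans ?_
    rw [Nat.card_perm, ← Subgroup.index, h]
    rfl
  rw [← Subgroup.relIndex_mul_index G₀.normalCore_le, h] at h1
  obtain ⟨k, hk⟩ := Nat.dvd_of_mul_dvd_mul_right (by decide) h1
  rw [hk, pow_mul]
  exact pow_mem ((G₀.normalCore.subgroupOf G₀).pow_index_mem ⟨x, hx⟩) k

/-- a group acting on three points has a fixed point or is transitive -/
theorem le_cj_or {A : Type} [Group A] {Γ : Subgroup A} (h : Γ.index = 3) (L : Subgroup A) :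
    (∃ a, L ≤ cj a Γ) ∨ Γ.relIndex L = 3 := by
  by_contra h0
  push Not at h0
  have : Finite (A ⧸ Γ) := Nat.finite_of_card_ne_zero (h ▸ by decide : Γ.index ≠ 0)
  have h1 : ∀ y : A ⧸ Γ, 1 < (orbit L y).ncard := fun y => by
    induction y using QuotientGroup.induction_on with
    | _ a =>
    obtain ⟨l, hl, hl'⟩ := Set.not_subset.1 (h0.1 a)
    exact (Set.one_lt_ncard (Set.toFinite _)).2
      ⟨_, mem_orbit _ (⟨l, hl⟩ : L), _, mem_orbit_self _, fun e => hl' ((smul_coe_eq_iff l a).1 e)⟩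
  have h2 : (orbit L ((1 : A) : A ⧸ Γ)).ncard = Γ.relIndex L := by
    rw [← index_stabilizer, Subgroup.relIndex]
    congr 1
    ext u
    exact (smul_coe_eq_iff u.1 1).trans (by rw [cj_one]; rfl)
  obtain ⟨y, hy⟩ : ∃ y, y ∉ orbit L ((1 : A) : A ⧸ Γ) := by
    by_contra h3
    push Not at h3
    exact h0.2 (by rw [← h2, Set.eq_univ_of_forall h3, Set.ncard_univ, ← h]; rfl)
  have h3 := Set.ncard_le_ncard (Set.subset_univ (orbit L y ∪ orbit L ((1 : A) : A ⧸ Γ)))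
  rw [Set.ncard_union_eq ((orbit.eq_or_disjoint _ _).resolve_left fun e => hy (e ▸ mem_orbit_self y)), Set.ncard_univ,
    ← Subgroup.index, h] at h3
  have := h1 y
  have := h1 ((1 : A) : A ⧸ Γ)
  omega

end Cfsg.Agent.TH.Cl.D4
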