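import Cfsg.Agent.TH.Cl.D4.Ab
import Cfsg.Agent.TH.Cl.D4.Model
import Cfsg.Agent.TH.Cl.D4.Sub
import Cfsg.Agent.TH.Cl.Cases.Sim

/-!
# S3541, `PΩ₈⁺(q)`: the box `BoxD4` (helper60)

* `3 ∤ d` : pass to the subgroup which induces semilinear automorphisms (`no_of_not_dvd`);
* `3 ∣ d` : the point stabiliser contains `3⁴ : 3` (`no_of_dvd`).
-/

set_option autoImplicit false

namespace Cfsg.Agent.TH.Cl

open Cfsg.Agent.DS.Cl Cfsg.Agent.DS.Cl.Fwd Cfsg.Agent.SB.Br Module Cfsg.Agent.LieClassical.OrthCore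
  Cfsg.Agent.ClassicalGeometry.OrthSemi Cfsg.Agent.LieClassical.OrthForms Cfsg.Agent.ClassicalGeometry.OrthSemiForms
  QuadraticMap

namespace D4

variable {G : Type} [Group G] {T H : Subgroup G} {m p : ℕ} {K : Type} [Field K] [Fintype K] [CharP K p]

omit [CharP K p] in
theorem exists_equiv {f : (Fin 4 ⊕ Fin 4 → K) → K} (hf : ⇑(plusForm 4 K) = f) :
    Nonempty (POmega K f ≃* ↥(E (plusForm 4 K)) ⧸ Subgroup.center ↥(E (plusForm 4 K))) := by
  subst hf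
  exact ⟨pomegaEquiv (good_plus (by norm_num))⟩

/-- all the induced automorphisms are semilinear -/
theorem no_semi (hO : NoO fun _ _ _ _ _ _ => True) (hK : AllK) (c : LieCtx T H m p) (o : ¬ HasOwn p H)
    (e : T ≃* ↥(E (plusForm 4 K)) ⧸ Subgroup.center ↥(E (plusForm 4 K)))
    (hΓ : ∀ g, ind c.as.normal e g ∈ (Psi (plusForm 4 K)).range) : False := by
  have hG : LieClassical.OrthTrans.Good (plusForm 4 K) := good_plus (by norm_num)
  obtain ⟨R, hRL, hl, hR⟩ := modO K _ _ hG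
  obtain ⟨e₀⟩ := exists_equiv (coe_plusForm 4 K)
  obtain ⟨x, y, hxy⟩ := hG.exists_hyp
  obtain ⟨z, w, hzw, h1, h2, -, -⟩ := hG.exists_hyp2 hxy
  have h3 : ∀ v, plusForm 4 K v = 0 → polar (plusForm 4 K) v v = 0 := fun v hv => by rw [polar_self, hv, smul_zero]
  obtain ⟨⟨e'⟩, G', H', h4⟩ := Br.exists_ctx hK c o e hR hΓ
    (fun a b c => SB.Cl.cent_HF (orH _ hG.nondeg) R a b c (e₁ := x) (e₂ := z) (f₂ := w)
      hxy.left_ne (h3 x hxy.left) (h3 z hzw.left) (h3 w hzw.right) h1 h2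
      (by change polar (plusForm 4 K) w z ≠ 0; rw [hzw.pair']; exact one_ne_zero)
      (Or.inr ⟨(hl x).trans hxy.left, (hl z).trans hzw.left, (hl w).trans hzw.right⟩)) (Br.cast_EB _ p)
  have h0 : finrank K (Fin 4 ⊕ Fin 4 → K) = 2 * 4 := by
    rw [Module.finrank_fintype_fun_eq_card, Fintype.card_sum, Fintype.card_fin]
  exact hO K _ _ R _ G' H' m p ⟨⟨fun _ => rfl, fun _ _ => rfl, hRL, hl⟩, by omega, Or.inr (Or.inl ⟨4, h0,
    ⟨e'.trans e₀.symm⟩, LinearEquiv.refl _ _,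
    fun v => congrFun (coe_plusForm 4 K) v⟩)⟩ h4 trivial

variable [Finite G]

theorem no_of_not_dvd (hO : NoO fun _ _ _ _ _ _ => True) (hK : AllK) (c : LieCtx T H m p) (o : ¬ HasOwn p H)
    (e : T ≃* ↥(E (plusForm 4 K)) ⧸ Subgroup.center ↥(E (plusForm 4 K))) (hd : ¬ 3 ∣ Nat.card H / m) : False := by
  rcases le_cj_or (AutOrth.Final.index_plus_four (F := K)) (indH c.as.normal e).range with ⟨a, ha⟩ | h
  · exact no_semi hO hK c o (e.trans a⁻¹) fun g => mem_cj.1 (ha ⟨g, rfl⟩)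
  rw [← Subgroup.index_comap] at h
  have h1 : T ≤ (Psi (plusForm 4 K)).range.comap (indH c.as.normal e) := fun t ht => by
    rw [Subgroup.mem_comap, indH_mem c.as.normal e ⟨t, ht⟩]
    exact conj_mem_range _
  exact no_semi hO hK (lieCtx_sub c h1 (h ▸ Nat.prime_three) (h ▸ hd)) (fun a => o (hasOwn_of_sub (sq_mem_core h) a))
    ((Subgroup.subgroupOfEquivOfLe h1).trans e) fun g => g.2

theorem no_of_dvd (ht : BoxTri) (s : Sims) (hK : AllK) (c : LieCtx T H m p) (o : ¬ HasOwn p H) (hT : IsCl p T)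
    (e : T ≃* ↥(E (plusForm 4 K)) ⧸ Subgroup.center ↥(E (plusForm 4 K))) (hd : 3 ∣ Nat.card H / m) : False := by
  have := Fact.mk c.prime
  have := Fact.mk Nat.prime_three
  have h3 : (3 : K) ≠ 0 := fun h => c.not_dvd_d ((Nat.prime_dvd_prime_iff_eq c.prime Nat.prime_three).1
    ((CharP.cast_eq_zero_iff K p 3).1 (by exact_mod_cast h)) ▸ hd)
  obtain ⟨D⟩ := exists_dat c.as.normal h3 e
  obtain ⟨w, hw⟩ := D.exists_sp (c3 * c3)
  rw [show c3 * c3 * (c3 * c3) = c3 by decide] at hw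
  have h1 : w ^ 3 = 1 := D.inj (by
    rw [map_pow, hw, pow_three, pm_mul_pm, pm_mul_pm, sp_mul, sp_mul, show c3 * (c3 * c3) = 1 by decide, sp_one, pm_one,
      map_one])
  have h2 : IsPGroup 3 (Subgroup.zpowers (D.π w)) := IsPGroup.of_card_dvd_pow (n := 1) (by
    rw [Nat.card_zpowers, orderOf_dvd_iff_pow_eq_one, ← map_pow, pow_one, h1, map_one])
  obtain ⟨g, hg⟩ := Alt.exists_cj_le_of_not_dvd (c.half.not_dvd_index Nat.prime_three hd)
    (D.isPGroup_A.to_sup_of_normal_left' h2 (Subgroup.zpowers_le.2 (Dat.mem_norm_A fun i => ⟨_, D.conj_sp hw _⟩)))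
  rw [cj_le_iff] at hg
  have c' := Br.lieCtx_map c (MulAut.conj g⁻¹)
  have := c.as.normal
  rw [show T.map (MulAut.conj g⁻¹).toMonoidHom = T from Red.cj_normal T g⁻¹] at c'
  have o' : ¬ HasOwn p (cj g⁻¹ H) := fun h => o (Br.hasOwn_of_map _ h)
  have hA : ∀ c, D.y c ∈ cj g⁻¹ H := fun c => hg (Subgroup.mem_sup_left (D.y_mem_A c))
  have hw' : D.π w ∈ cj g⁻¹ H := hg (Subgroup.mem_sup_right (Subgroup.mem_zpowers _))
  rcases ht G T _ m c'.as c'.half with ⟨E, r, h⟩ | ⟨N, h⟩ | ⟨𝓢, h⟩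
  · exact Dat.false_of_loc c' hA hw hw' h (c'.ne_of_loc h)
  · exact Cases.false_of_sims s hK c' o' h hT
  · exact Dat.false_of_mul p hA hw hw' h

end D4

/-- **[C-D4]** -/
theorem boxD4_of (ht : BoxTri) (s : Sims) : BoxD4 := by
  rintro hO hK G _ _ T H m p c o ⟨K, _, _, _, ⟨e⟩⟩
  have hT : IsCl p T := Or.inr (Or.inr (Or.inr (Or.inr (Or.inl ⟨K, _, inferInstance, inferInstance, 4, le_rfl, ⟨e⟩⟩))))
  obtain ⟨e'⟩ := D4.exists_equiv (coe_plusForm 4 K)
  by_cases hd : 3 ∣ Nat.card H / m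
  · exact D4.no_of_dvd ht s hK c o hT (e.trans e') hd
  · exact D4.no_of_not_dvd hO hK c o (e.trans e') hd

end Cfsg.Agent.TH.Cl
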