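import Mathlib

/-!
# S3541, `PΩ₈⁺(q)`: matrices (helper60)

Isometries of the split form in eight variables over a field with a primitive cube root of unity `ω`, and the grading of
the matrices by the diagonal group `3⁴`.
-/

set_option autoImplicit false

namespace Cfsg.Agent.TH.Cl.D4

open Matrix

/-- the weights -/
abbrev I8 := Fin 4 ⊕ Fin 4

/-- the plane of a weight -/
def ix : I8 → Fin 4 := Sum.elim id id

/-- the group `3⁴` -/
abbrev W3 := Fin 4 → ZMod 3

/-- the value of a weight -/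
def wt (a : I8) (c : W3) : ZMod 3 := Sum.elim (fun i => c i) (fun i => -c i) a

theorem wt_add (a : I8) (c d : W3) : wt a (c + d) = wt a c + wt a d := by
  rcases a with i | i <;> simp [wt, add_comm]

theorem wt_neg (a : I8) (c : W3) : wt a (-c) = -wt a c := by
  rcases a with i | i <;> simp [wt]

theorem wt_zero (a : I8) : wt a 0 = 0 := by
  rcases a with i | i <;> simp [wt]

theorem wt_smul (a : I8) (k : ZMod 3) (c : W3) : wt a (k • c) = k * wt a c := by
  rcases a with i | i <;> simp [wt]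

theorem wt_swap (a : I8) (c : W3) : wt a.swap c = -wt a c := by
  rcases a with i | i <;> simp [wt]

theorem ix_swap (a : I8) : ix a.swap = ix a := by
  rcases a with i | i <;> rfl

theorem swap_ne (a : I8) : a.swap ≠ a := by
  rcases a with i | i <;> simp

theorem eq_or_of_ix {a b : I8} (h : ix a = ix b) : a = b ∨ a = b.swap := by
  revert a b
  decide

/-- the generators -/
def e3 (i : Fin 4) : W3 := Pi.single i 1

theorem eq_of_wt {a b : I8} (h : ∀ i, wt a (e3 i) = wt b (e3 i)) : a = b := by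
  revert a b
  decide

theorem wt_e3_of_ne {a : I8} {i : Fin 4} (h : ix a ≠ i) : wt a (e3 i) = 0 := by
  revert a i
  decide

theorem wt_e3_cases {a b : I8} {i : Fin 4} (h : wt a (e3 i) = wt b (e3 i)) : a = b ∨ (ix a ≠ i ∧ ix b ≠ i) := by
  revert a b i
  decide

theorem pair_of_wt : ∀ a b c d : I8, a ≠ b →
    (∀ i, wt c (e3 i) - wt d (e3 i) = wt a (e3 i) - wt b (e3 i)) → (c = a ∧ d = b) ∨ (c = b.swap ∧ d = a.swap) := by
  decide +kernel

variable {F : Type} [Field F]

/-- a primitive cube root of unity -/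
structure Om (ω : F) : Prop where
  eq : ω ^ 2 + ω + 1 = 0
  three : (3 : F) ≠ 0

/-- the character of `ZMod 3` -/
def om (ω : F) (k : ZMod 3) : F := ω ^ k.val

theorem om_zero (ω : F) : om ω 0 = 1 := pow_zero ω

theorem om_one (ω : F) : om ω 1 = ω := pow_one ω

theorem om_two (ω : F) : om ω 2 = ω ^ 2 := rfl

theorem om_neg_one (ω : F) : om ω (-1) = ω ^ 2 := rfl

theorem z3 (k : ZMod 3) : k = 0 ∨ k = 1 ∨ k = -1 := by
  revert k
  decide

namespace Om

variable {ω : F} (h : Om ω)
include h

theorem cube : ω ^ 3 = 1 := by linear_combination (ω - 1) * h.eq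

theorem ne_one : ω ≠ 1 := fun e => h.three (by have := h.eq; rw [e] at this; linear_combination this)

theorem ne_zero : ω ≠ 0 := fun e => one_ne_zero (by rw [← h.cube, e]; ring : (1 : F) = 0)

theorem sq_ne_one : ω ^ 2 ≠ 1 := fun e => h.ne_one (by linear_combination h.cube - ω * e)

theorem ne_sq : ω ≠ ω ^ 2 := fun e => h.ne_one (mul_left_cancel₀ h.ne_zero (by linear_combination -e))

theorem om_add (k l : ZMod 3) : om ω (k + l) = om ω k * om ω l := by
  rw [om, om, om, ← pow_add, ZMod.val_add, ← pow_eq_pow_mod _ h.cube]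

theorem om_neg_mul (k : ZMod 3) : om ω (-k) * om ω k = 1 := by rw [← h.om_add, neg_add_cancel, om_zero]

theorem om_ne_zero (k : ZMod 3) : om ω k ≠ 0 := pow_ne_zero _ h.ne_zero

theorem eq_zero_of_om {k : ZMod 3} (e : om ω k = 1) : k = 0 := by
  rcases z3 k with rfl | rfl | rfl
  · rfl
  · exact absurd ((om_one ω).symm.trans e) h.ne_one
  · exact absurd e h.sq_ne_one

theorem om_inj {k l : ZMod 3} (e : om ω k = om ω l) : k = l :=
  eq_of_sub_eq_zero (h.eq_zero_of_om (by rw [sub_eq_add_neg, h.om_add, e, mul_comm, h.om_neg_mul]))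

theorem exists_om {t : F} (e : t ^ 3 = 1) : ∃ k, t = om ω k := by
  have h1 : (t - 1) * (t - ω) * (t - ω ^ 2) = 0 := by
    linear_combination e - (t ^ 2 - t) * h.eq + (t - 1) * h.cube
  rcases mul_eq_zero.1 h1 with h2 | h2
  · rcases mul_eq_zero.1 h2 with h2 | h2
    · exact ⟨0, by rw [om_zero]; exact sub_eq_zero.1 h2⟩
    · exact ⟨1, by rw [om_one]; exact sub_eq_zero.1 h2⟩
  · exact ⟨2, sub_eq_zero.1 h2⟩

theorem sum_om (k : ZMod 3) : 1 + om ω k + om ω k * om ω k = if k = 0 then 3 else 0 := by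
  rcases z3 k with rfl | rfl | rfl
  · rw [om_zero, if_pos rfl]; ring
  · rw [om_one, if_neg (by decide)]; linear_combination h.eq
  · rw [om_neg_one, if_neg (by decide)]; linear_combination h.eq + ω * h.cube

end Om

/-- the matrices -/
abbrev M8 (F : Type) := Matrix I8 I8 F

/-- the diagonal group -/
def dg (ω : F) (c : W3) : M8 F := diagonal fun a => om ω (wt a c)

theorem dg_zero (ω : F) : dg ω 0 = 1 := by
  simp only [dg, wt_zero, om_zero, diagonal_one]

theorem mul_dg (ω : F) (M : M8 F) (c : W3) (a b : I8) : (M * dg ω c) a b = M a b * om ω (wt b c) := mul_diagonal _ _ _ _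

theorem dg_mul' (ω : F) (M : M8 F) (c : W3) (a b : I8) : (dg ω c * M) a b = om ω (wt a c) * M a b :=
  diagonal_mul _ _ _ _

theorem Om.dg_mul {ω : F} (h : Om ω) (c d : W3) : dg ω c * dg ω d = dg ω (c + d) := by
  simp only [dg, diagonal_mul_diagonal, wt_add, h.om_add]

theorem Om.dg_inj {ω : F} (h : Om ω) {c d : W3} (e : dg ω c = dg ω d) : c = d := funext fun i =>
  h.om_inj (by simpa [dg, wt] using congrFun (congrFun e (.inl i)) (.inl i))

theorem Om.tw_iff {ω : F} (h : Om ω) {M : M8 F} {c d : W3} :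
    M * dg ω c = dg ω d * M ↔ ∀ a b, M a b ≠ 0 → wt a d = wt b c := by
  refine ⟨fun e a b h0 => h.om_inj (mul_right_cancel₀ h0 ?_), fun e => ?_⟩
  · rw [← dg_mul', ← e, mul_dg, mul_comm]
  · ext a b
    rw [mul_dg, dg_mul', mul_comm]
    by_cases h0 : M a b = 0
    · rw [h0, mul_zero, mul_zero]
    · rw [e a b h0]

/-- diagonal matrices -/
def Dg (M : M8 F) : Prop := ∀ a b, M a b ≠ 0 → a = b

theorem Dg.eq {M : M8 F} (h : Dg M) : M = diagonal fun a => M a a := by
  ext a b
  by_cases e : a = b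
  · subst e; rw [diagonal_apply_eq]
  · rw [diagonal_apply_ne _ e]
    by_contra h0
    exact e (h a b h0)

theorem Dg.comm {M N : M8 F} (h : Dg M) (h' : Dg N) : M * N = N * M := by
  rw [h.eq, h'.eq, diagonal_mul_diagonal, diagonal_mul_diagonal]
  simp only [mul_comm]

theorem dg_Dg (ω : F) (c : W3) : Dg (dg ω c) := fun a b h => by
  by_contra e
  exact h (diagonal_apply_ne _ e)

theorem Om.dg_of_comm {ω : F} (h : Om ω) {M : M8 F} (e : ∀ i, M * dg ω (e3 i) = dg ω (e3 i) * M) : Dg M :=
  fun a b h0 => eq_of_wt fun i => h.tw_iff.1 (e i) a b h0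

theorem Dg.comm_iff {D M : M8 F} (h : Dg D) : M * D = D * M ↔ ∀ a b, M a b ≠ 0 → D a a = D b b := by
  refine ⟨fun e a b h0 => mul_right_cancel₀ h0 ?_, fun e => ?_⟩
  · have h1 := congrFun (congrFun e a) b
    rw [h.eq, mul_diagonal, diagonal_mul] at h1
    rw [← h1, mul_comm]
  · ext a b
    rw [h.eq, mul_diagonal, diagonal_mul, mul_comm]
    by_cases h0 : M a b = 0
    · rw [h0, mul_zero, mul_zero]
    · rw [e a b h0]

/-! ### isometries -/

/-- the quadratic form -/
def qf (Y : I8 → F) : F := ∑ i, Y (.inl i) * Y (.inr i)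

/-- the polar form -/
def bf (Y Z : I8 → F) : F := ∑ a, Y a * Z a.swap

theorem qf_add (Y Z : I8 → F) : qf (Y + Z) = qf Y + qf Z + bf Y Z := by
  simp only [qf, bf, Fintype.sum_sum_type, Pi.add_apply, Sum.swap_inl, Sum.swap_inr, ← Finset.sum_add_distrib]
  exact Finset.sum_congr rfl fun i _ => by ring

theorem qf_smul (t : F) (Y : I8 → F) : qf (t • Y) = t ^ 2 * qf Y := by
  simp only [qf, Pi.smul_apply, smul_eq_mul, Finset.mul_sum]
  exact Finset.sum_congr rfl fun i _ => by ring

theorem qf_single (a : I8) (t : F) : qf (Pi.single a t) = 0 := by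
  refine Finset.sum_eq_zero fun i _ => ?_
  rcases a with j | j
  · rw [Pi.single_eq_of_ne (show (Sum.inr i : I8) ≠ Sum.inl j by simp), mul_zero]
  · rw [Pi.single_eq_of_ne (show (Sum.inl i : I8) ≠ Sum.inr j by simp), zero_mul]

theorem bf_single (Y : I8 → F) (a : I8) (t : F) : bf Y (Pi.single a t) = Y a.swap * t := by
  rw [bf, Finset.sum_eq_single a.swap]
  · rw [Sum.swap_swap, Pi.single_eq_same]
  · intro b _ hb
    rw [Pi.single_eq_of_ne fun e => hb (by rw [← e, Sum.swap_swap]), mul_zero]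
  · exact fun e => absurd (Finset.mem_univ _) e

/-- a vector in one plane -/
theorem qf_plane {Y : I8 → F} {a : I8} (h : ∀ b, Y b ≠ 0 → ix b = ix a) : qf Y = Y a * Y a.swap := by
  rw [qf, Finset.sum_eq_single (ix a)]
  · rcases a with j | j
    · rfl
    · exact mul_comm _ _
  · intro i _ hi
    by_contra h0
    exact hi (h _ (left_ne_zero_of_mul h0))
  · exact fun e => absurd (Finset.mem_univ _) e

/-- isometries -/
def Iso (M : M8 F) : Prop := ∀ Y, qf (M *ᵥ Y) = qf Y

/-- the adjoint -/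
def adj (M : M8 F) : M8 F := Matrix.of fun c d => M d.swap c.swap

theorem Iso.bf {M : M8 F} (h : Iso M) (Y Z : I8 → F) : bf (M *ᵥ Y) (M *ᵥ Z) = bf Y Z := by
  have h1 := h (Y + Z)
  rw [mulVec_add, qf_add, qf_add, h, h] at h1
  exact add_left_cancel h1

theorem Iso.adj_mul {M : M8 F} (h : Iso M) : adj M * M = 1 := by
  ext c d
  have h1 := h.bf (Pi.single d 1) (Pi.single c.swap 1)
  rw [bf_single, Sum.swap_swap, mul_one, mulVec_single_one, mulVec_single_one] at h1
  rw [mul_apply, one_apply, ← Pi.single_apply d (1 : F) c, ← h1]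
  exact Finset.sum_congr rfl fun a _ => mul_comm _ _

theorem Iso.mul_adj {M : M8 F} (h : Iso M) : M * adj M = 1 := mul_eq_one_comm.1 h.adj_mul

theorem Iso.mul {M N : M8 F} (h : Iso M) (h' : Iso N) : Iso (M * N) := fun Y => by
  rw [← mulVec_mulVec, h, h']

theorem Iso.adj {M : M8 F} (h : Iso M) : Iso (adj M) := fun Y => by
  rw [← h, mulVec_mulVec, h.mul_adj, one_mulVec]

theorem Iso.col {M : M8 F} (h : Iso M) (d : I8) : qf (fun a => M a d) = 0 := by
  have h1 := h (Pi.single d 1)
  rw [mulVec_single_one, qf_single] at h1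
  exact h1

theorem Om.iso_dg {ω : F} (h : Om ω) (c : W3) : Iso (dg ω c) := fun Y => by
  refine Finset.sum_congr rfl fun i _ => ?_
  rw [dg, mulVec_diagonal, mulVec_diagonal]
  have h1 := h.om_neg_mul (c i)
  change om ω (c i) * _ * (om ω (-c i) * _) = _
  linear_combination (Y (.inl i) * Y (.inr i)) * h1

theorem Dg.mul_swap {M : M8 F} (h : Dg M) (hM : Iso M) (a : I8) : M a a * M a.swap a.swap = 1 := by
  have h1 := congrFun (congrFun hM.mul_adj a) a
  rwa [h.eq, diagonal_mul, one_apply_eq, adj, of_apply, diagonal_apply_eq] at h1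

/-- a diagonal isometry of order dividing three -/
theorem Om.exists_dg {ω : F} (h : Om ω) {M : M8 F} (hD : Dg M) (hM : Iso M) (h3 : M ^ 3 = 1) : ∃ c, M = dg ω c := by
  have h1 : ∀ a, M a a ^ 3 = 1 := fun a => by
    have h2 := congrFun (congrFun h3 a) a
    rwa [hD.eq, diagonal_pow, diagonal_apply_eq, one_apply_eq] at h2
  choose k hk using fun i => h.exists_om (h1 (.inl i))
  refine ⟨k, hD.eq.trans (congrArg diagonal (funext fun a => ?_))⟩
  rcases a with i | i
  · exact hk i
  · have h2 := hD.mul_swap hM (.inl i)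
    rw [hk] at h2
    refine mul_left_cancel₀ (h.om_ne_zero (k i)) (h2.trans ?_)
    rw [mul_comm]
    exact (h.om_neg_mul _).symm

/-- the plane `i` is invariant -/
def Pl (i : Fin 4) (M : M8 F) : Prop := ∀ a b, M a b ≠ 0 → (ix a = i ↔ ix b = i)

/-- the square of an isometry which preserves a plane is a rotation of the plane -/
theorem Pl.sq {ω : F} (h : Om ω) {i : Fin 4} {M : M8 F} (hP : Pl i M) (hM : Iso M) :
    M * M * dg ω (e3 i) = dg ω (e3 i) * (M * M) := by
  have hc : ∀ a, ix a = i → M a a * M a.swap a = 0 := fun a ha =>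
    (qf_plane (Y := fun b => M b a) fun b hb => ((hP b a hb).2 ha).trans ha.symm).symm.trans (hM.col a)
  have hr : ∀ a, ix a = i → M a.swap a.swap * M a.swap a = 0 := fun a ha => by
    have h1 := (qf_plane (Y := fun b => adj M b a) (a := a) fun b hb => by
      have h2 := (hP _ _ hb).1 (by rw [ix_swap, ha])
      rw [ix_swap] at h2
      rw [h2, ha]).symm.trans (hM.adj.col a)
    simpa only [adj, of_apply, Sum.swap_swap] using h1
  refine h.tw_iff.2 fun a b h0 => ?_
  rw [mul_apply] at h0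
  obtain ⟨e, -, he⟩ := Finset.exists_ne_zero_of_sum_ne_zero h0
  have h1 := (hP _ _ (left_ne_zero_of_mul he)).trans (hP _ _ (right_ne_zero_of_mul he))
  by_cases hb : ix b = i
  · rcases eq_or_of_ix ((h1.2 hb).trans hb.symm) with rfl | rfl
    · rfl
    · exfalso
      rcases eq_or_of_ix (((hP _ _ (right_ne_zero_of_mul he)).2 hb).trans hb.symm) with rfl | rfl
      · exact he (by rw [mul_comm]; exact hc _ hb)
      · exact he (hr _ hb)
  · rw [wt_e3_of_ne hb, wt_e3_of_ne (mt h1.1 hb)]

theorem Pl.of_cube {ω : F} (h : Om ω) {i : Fin 4} {M : M8 F} (hP : Pl i M) (hM : Iso M) (h3 : M ^ 3 = 1) :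
    M * dg ω (e3 i) = dg ω (e3 i) * M := by
  have h1 : Commute (M * M) (dg ω (e3 i)) := hP.sq h hM
  have h2 : M * M * (M * M) = M := by
    rw [← mul_assoc, ← pow_two, ← pow_succ, h3, one_mul]
  rw [← h2]
  exact h1.mul_left h1

/-! ### the grading -/

open Classical in
/-- the part of `M` on the set of positions `P` -/
noncomputable def msk (P : I8 → I8 → Prop) (M : M8 F) : M8 F := Matrix.of fun a b => if P a b then M a b else 0

theorem msk_pos {P : I8 → I8 → Prop} (M : M8 F) {a b : I8} (h : P a b) : msk P M a b = M a b := if_pos h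

theorem msk_neg {P : I8 → I8 → Prop} (M : M8 F) {a b : I8} (h : ¬ P a b) : msk P M a b = 0 := if_neg h

theorem of_msk_ne {P : I8 → I8 → Prop} {M : M8 F} {a b : I8} (h : msk P M a b ≠ 0) : P a b := by
  by_contra e
  exact h (msk_neg M e)

/-- a subspace which is invariant under the diagonal group -/
def Gr (ω : F) (B : Submodule F (M8 F)) : Prop := ∀ c, ∀ M ∈ B, dg ω c * M * dg ω (-c) ∈ B

theorem Gr.step {ω : F} (h : Om ω) {B : Submodule F (M8 F)} (hB : Gr ω B) (c : W3) (k : ZMod 3) {M : M8 F}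
    (hM : M ∈ B) : msk (fun a b => wt a c - wt b c = k) M ∈ B := by
  have h1 : ∀ (N : M8 F) (a b : I8), (om ω (-k) • (dg ω c * N * dg ω (-c))) a b =
      om ω (wt a c - wt b c - k) * N a b := fun N a b => by
    rw [Matrix.smul_apply, mul_dg, dg_mul', wt_neg, sub_eq_add_neg, sub_eq_add_neg, h.om_add, h.om_add, smul_eq_mul]
    ring
  have h2 : ∀ N ∈ B, om ω (-k) • (dg ω c * N * dg ω (-c)) ∈ B := fun N hN => B.smul_mem _ (hB c N hN)
  convert B.smul_mem (3 : F)⁻¹ (B.add_mem (B.add_mem hM (h2 _ hM)) (h2 _ (h2 _ hM))) using 1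
  ext a b
  rw [Matrix.smul_apply, Matrix.add_apply, Matrix.add_apply, h1 M, h1, h1 M, smul_eq_mul]
  have h3 := h.sum_om (wt a c - wt b c - k)
  have h4 := h.three
  by_cases e : wt a c - wt b c = k
  · rw [msk_pos (P := fun a b => wt a c - wt b c = k) M e]
    rw [if_pos (sub_eq_zero.2 e)] at h3
    field_simp
    linear_combination -M a b * h3
  · rw [msk_neg (P := fun a b => wt a c - wt b c = k) M e]
    rw [if_neg (fun e' => e (sub_eq_zero.1 e'))] at h3
    linear_combination -(3 : F)⁻¹ * M a b * h3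

/-- the component of the weight `a - b` -/
noncomputable def cmp (a b : I8) (M : M8 F) : M8 F := msk (fun c d => (c = a ∧ d = b) ∨ (c = b.swap ∧ d = a.swap)) M

theorem cmp_self (a b : I8) (M : M8 F) : cmp a b M a b = M a b := msk_pos M (Or.inl ⟨rfl, rfl⟩)

theorem Gr.cmp {ω : F} (h : Om ω) {B : Submodule F (M8 F)} (hB : Gr ω B) {a b : I8} (hab : a ≠ b) {M : M8 F}
    (hM : M ∈ B) : cmp a b M ∈ B := by
  have h1 := fun i N hN => hB.step h (e3 i) (wt a (e3 i) - wt b (e3 i)) (M := N) hN
  convert h1 0 _ (h1 1 _ (h1 2 _ (h1 3 _ hM))) using 1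
  ext c d
  by_cases e : (c = a ∧ d = b) ∨ (c = b.swap ∧ d = a.swap)
  · have h2 : ∀ i, wt c (e3 i) - wt d (e3 i) = wt a (e3 i) - wt b (e3 i) := fun i => by
      rcases e with ⟨rfl, rfl⟩ | ⟨rfl, rfl⟩
      · rfl
      · rw [wt_swap, wt_swap]; ring
    rw [D4.cmp, msk_pos M e, msk_pos _ (h2 0), msk_pos _ (h2 1), msk_pos _ (h2 2), msk_pos _ (h2 3)]
  · rw [D4.cmp, msk_neg M e]
    by_contra h0
    have a0 := of_msk_ne (Ne.symm h0)
    rw [msk_pos _ a0] at h0
    have a1 := of_msk_ne (Ne.symm h0)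
    rw [msk_pos _ a1] at h0
    have a2 := of_msk_ne (Ne.symm h0)
    rw [msk_pos _ a2] at h0
    have a3 := of_msk_ne (Ne.symm h0)
    refine e (pair_of_wt a b c d hab fun i => ?_)
    fin_cases i
    exacts [a0, a1, a2, a3]

theorem cmp_sq {a b : I8} (hab : a ≠ b) (M : M8 F) : cmp a b M * cmp a b M = 0 := by
  ext c d
  rw [mul_apply, Matrix.zero_apply]
  refine Finset.sum_eq_zero fun e _ => ?_
  by_contra h0
  rcases of_msk_ne (left_ne_zero_of_mul h0) with ⟨-, h1⟩ | ⟨-, h1⟩ <;>
    rcases of_msk_ne (right_ne_zero_of_mul h0) with ⟨h2, -⟩ | ⟨h2, -⟩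
  · exact hab (h2.symm.trans h1)
  · exact swap_ne b (h2.symm.trans h1)
  · exact swap_ne a (h1.symm.trans h2)
  · exact hab (by rw [← Sum.swap_swap a, ← h1, h2, Sum.swap_swap])

theorem gr_span {ω : F} {S : Set (M8 F)} (hS : ∀ c, ∀ M ∈ S, dg ω c * M * dg ω (-c) ∈ S) :
    Gr ω (Submodule.span F S) := fun c M hM => by
  induction hM using Submodule.span_induction with
  | mem x hx => exact Submodule.subset_span (hS c x hx)
  | zero => rw [mul_zero, zero_mul]; exact zero_mem _
  | add x y _ _ hx hy => rw [mul_add, add_mul]; exact add_mem hx hy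
  | smul t x _ hx => rw [mul_smul_comm, smul_mul_assoc]; exact Submodule.smul_mem _ _ hx

/-- **commuting semisimple matrices** normalised by the diagonal group are diagonal -/
theorem dg_of_comm_set [PerfectField F] {ω : F} (h : Om ω) {S : Set (M8 F)}
    (hS : ∀ c, ∀ M ∈ S, dg ω c * M * dg ω (-c) ∈ S) (hc : ∀ M ∈ S, ∀ N ∈ S, M * N = N * M) {n : ℕ} (hn : (n : F) ≠ 0)
    (hp : ∀ M ∈ S, M ^ n = 1) {M : M8 F} (hM : M ∈ S) : Dg M := by
  intro a b h0
  by_contra hab
  have h1 := (gr_span hS).cmp h hab (Submodule.subset_span hM)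
  let φ : M8 F ≃ₐ[F] Module.End F (I8 → F) := Matrix.toLinAlgEquiv'
  have h2 : ∀ N ∈ Submodule.span F S, ∀ N' ∈ Submodule.span F S, Commute N N' := fun N hN N' hN' => by
    induction hN using Submodule.span_induction with
    | mem x hx =>
      induction hN' using Submodule.span_induction with
      | mem y hy => exact hc x hx y hy
      | zero => exact Commute.zero_right _
      | add y z _ _ hy hz => exact hy.add_right hz
      | smul t y _ hy => exact hy.smul_right t
    | zero => exact Commute.zero_left _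
    | add x y _ _ hx hy => exact hx.add_left hy
    | smul t x _ hx => exact hx.smul_left t
  have h3 : ∀ N ∈ Submodule.span F S, (φ N).IsSemisimple := fun N hN => by
    induction hN using Submodule.span_induction with
    | mem x hx =>
      refine Module.End.isSemisimple_of_squarefree_aeval_eq_zero
        (Polynomial.separable_X_pow_sub_C (1 : F) hn one_ne_zero).squarefree ?_
      rw [map_sub, map_pow, Polynomial.aeval_X, Polynomial.aeval_C, map_one, ← map_pow, hp x hx, map_one, sub_self]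
    | zero => rw [map_zero]; exact Module.End.isSemisimple_zero
    | add x y hx' hy' hx hy => rw [map_add]; exact hx.add_of_commute ((h2 x hx' y hy').map φ) hy
    | smul t x _ hx => rw [map_smul]; exact Module.End.IsSemisimple_smul t hx
  have h4 : φ (cmp a b M) = 0 := Module.End.eq_zero_of_isNilpotent_isSemisimple
    ⟨2, by rw [← map_pow, pow_two, cmp_sq hab, map_zero]⟩ (h3 _ h1)
  exact h0 (by rw [← cmp_self a b M, (map_eq_zero_iff φ φ.injective).1 h4, Matrix.zero_apply])

end Cfsg.Agent.TH.Cl.D4
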