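import Cfsg.Agent.TH.Cl.D4.Rel

/-!
# S3541, `PΩ₈⁺(q)`: no product of simple groups is normalised by `3⁴ : 3` (helper60)
-/

set_option autoImplicit false

namespace Cfsg.Agent.TH.Cl.D4

open Matrix

section groups

variable {G : Type} [Group G]

theorem simple_cases {S K : Subgroup G} (hS : IsSimpleGroup S) (h1 : K ≤ S) (h2 : ∀ s ∈ S, ∀ k ∈ K, s * k * s⁻¹ ∈ K) :
    K = ⊥ ∨ K = S := by
  have h3 : (K.subgroupOf S).Normal := ⟨fun k hk s => h2 s s.2 k hk⟩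
  rcases h3.eq_bot_or_eq_top with h | h
  · exact Or.inl (by rw [← inf_eq_left.2 h1, ← Subgroup.subgroupOf_map_subtype, h, Subgroup.map_bot])
  · exact Or.inr (le_antisymm h1 (Subgroup.subgroupOf_eq_top.1 h))

theorem not_isPGroup [Finite G] {S : Subgroup G} (hS : IsSimpleGroup S) (hn : ¬ IsMulCommutative S) {p : ℕ}
    [Fact p.Prime] (h : IsPGroup p S) : False := by
  have := h.isNilpotent
  exact hn ⟨⟨(IsSimpleGroup.comm_iff_isSolvable (G := S)).2 inferInstance⟩⟩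

theorem comm_of {S : Subgroup G} (h : ∀ a ∈ S, ∀ b ∈ S, a * b = b * a) : IsMulCommutative S :=
  ⟨⟨fun a b => Subtype.ext (h a a.2 b b.2)⟩⟩

/-- an invariant elementary abelian subgroup -/
theorem exists_inv_ab [Finite G] {S N : Subgroup G} (hN : IsPGroup 3 N) (hn : ∀ n ∈ N, ∀ s ∈ S, n * s * n⁻¹ ∈ S) {l : ℕ}
    [hl : Fact l.Prime] (h1 : l ∣ Nat.card S) (h2 : l = 3 ∨ ¬ 3 ∣ Nat.card S) :
    ∃ U : Subgroup G, U ≤ S ∧ U ≠ ⊥ ∧ (∀ u ∈ U, u ^ l = 1) ∧ (∀ a ∈ U, ∀ b ∈ U, a * b = b * a) ∧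
      ∀ n ∈ N, ∀ u ∈ U, n * u * n⁻¹ ∈ U := by
  have h3 : ¬ 3 ∣ Nat.card (Sylow l S) := by
    rcases h2 with rfl | h2
    · exact not_dvd_card_sylow 3 S
    · obtain ⟨P⟩ : Nonempty (Sylow l S) := inferInstance
      exact fun h => h2 (h.trans (P.card_dvd_index.trans (Subgroup.index_dvd_card _)))
  let φ : N →* MulAut S := S.normalizerMonoidHom.comp (Subgroup.inclusion (le_normalizer_of_conj hn))
  let _ : MulAction N (Sylow l S) := MulAction.compHom (Sylow l S) φ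
  have := Fact.mk Nat.prime_three
  obtain ⟨P, hP⟩ := hN.nonempty_fixed_point_of_prime_not_dvd_card (Sylow l S) h3
  have h4 : ∀ n (h : n ∈ N), ∀ s : S, s ∈ (P : Subgroup S) → (⟨n * s * n⁻¹, hn n h s s.2⟩ : S) ∈ (P : Subgroup S) := by
    intro n h s hs
    have h5 : φ ⟨n, h⟩ • P = P := hP ⟨n, h⟩
    rw [← h5]
    exact Subgroup.smul_mem_pointwise_smul _ _ _ hs
  let Q : Subgroup G := (P : Subgroup S).map S.subtype
  have h5 : ∀ n ∈ N, ∀ s ∈ Q, n * s * n⁻¹ ∈ Q := by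
    rintro n h _ ⟨s, hs, rfl⟩
    exact ⟨_, h4 n h s hs, rfl⟩
  let U : Subgroup G :=
    { carrier := {u | u ∈ Q ∧ u ^ l = 1 ∧ ∀ s ∈ Q, u * s = s * u}
      one_mem' := ⟨one_mem _, one_pow _, fun s _ => by rw [one_mul, mul_one]⟩
      mul_mem' := fun {a b} ha hb => ⟨mul_mem ha.1 hb.1, by
        rw [Commute.mul_pow (ha.2.2 b hb.1), ha.2.1, hb.2.1, mul_one], fun s hs => by
        rw [mul_assoc, hb.2.2 s hs, ← mul_assoc, ha.2.2 s hs, mul_assoc]⟩
      inv_mem' := fun {a} ha => ⟨inv_mem ha.1, by rw [inv_pow, ha.2.1, inv_one], fun s hs =>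
        (Commute.inv_left (ha.2.2 s hs)).eq⟩ }
  refine ⟨U, fun u hu => Subgroup.map_subtype_le _ hu.1, ?_, fun u hu => hu.2.1, fun a ha b hb => ha.2.2 b hb.1,
    fun n h u hu => ⟨h5 n h u hu.1, by rw [conj_pow, hu.2.1, mul_one, mul_inv_cancel], fun s hs => ?_⟩⟩
  · have : Nontrivial (P : Subgroup S) := (Subgroup.nontrivial_iff_ne_bot _).2 (P.ne_bot_of_dvd_card h1)
    have h6 := P.isPGroup'.center_nontrivial
    obtain ⟨k, hk0, hk⟩ := (P.isPGroup'.to_subgroup (Subgroup.center _)).nontrivial_iff_card.1 h6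
    obtain ⟨z, hz⟩ := exists_prime_orderOf_dvd_card' (G := Subgroup.center (P : Subgroup S)) l
      (hk ▸ dvd_pow_self l hk0.ne')
    intro hU
    have h7 : ((z.1.1 : S) : G) ∈ U := ⟨⟨_, z.1.2, rfl⟩, by
      have h8 := pow_orderOf_eq_one z
      rw [hz] at h8
      exact congrArg (fun t : Subgroup.center (P : Subgroup S) => ((t.1.1 : S) : G)) h8, by
      rintro _ ⟨s, hs, rfl⟩
      exact congrArg (fun t : (P : Subgroup S) => ((t.1 : S) : G)) (Subgroup.mem_center_iff.1 z.2 ⟨s, hs⟩).symm⟩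
    rw [hU, Subgroup.mem_bot] at h7
    rw [show z = 1 from Subtype.ext (Subtype.ext (Subtype.ext h7)), orderOf_one] at hz
    exact hl.1.one_lt.ne hz
  · have := hu.2.2 _ (h5 _ (inv_mem h) s hs)
    calc _ = n * (u * (n⁻¹ * s * n⁻¹⁻¹)) * n⁻¹ := by group
      _ = _ := by rw [this]; group

end groups

/-- the cycle on the first three planes -/
def c3 : Equiv.Perm (Fin 4) := Equiv.swap 0 1 * Equiv.swap 1 2

namespace Dat

variable {G : Type} [Group G] {T : Subgroup G} {Ω F : Type} [Group Ω] [Field F] (D : Dat T Ω F)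

/-- the derived group of the preimage -/
def hat (S : Subgroup G) : Subgroup Ω := ⁅S.comap D.π, S.comap D.π⁆

variable {D} {S S' : Subgroup G}

theorem hat_mem {g : Ω} (h : g ∈ D.hat S) : D.π g ∈ S := Subgroup.commutator_le_self (S.comap D.π) h

theorem hat_surj (hT : S ≤ T) (hS : IsSimpleGroup S) (hn : ¬ IsMulCommutative S) {s : G} (hs : s ∈ S) :
    ∃ g ∈ D.hat S, D.π g = s := by
  have h1 : (S.comap D.π).map D.π = S := Subgroup.map_comap_eq_self fun t ht => D.surj t (hT ht)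
  have h2 : ⁅S, S⁆ = S := (simple_cases hS (Subgroup.commutator_le_self S) fun s hs k hk => by
    rw [← inv_mul_cancel_right (s * k * s⁻¹) k]
    exact mul_mem (Subgroup.commutator_mem_commutator hs (Subgroup.commutator_le_self S hk)) hk).resolve_left fun h =>
      hn (comm_of fun a ha b hb => Subgroup.commutator_eq_bot_iff_le_centralizer.1 h hb a ha)
  rw [← h2, ← h1, ← Subgroup.map_commutator] at hs
  exact hs

theorem hat_comm (h : ∀ a ∈ S, ∀ b ∈ S', a * b = b * a) {k g : Ω} (hk : D.π k ∈ S) (hg : g ∈ D.hat S') :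
    k * g = g * k := by
  have h1 : D.hat S' ≤ Subgroup.centralizer {k} := Subgroup.commutator_le.2 fun a ha b hb => by
    have h2 : ∀ a, D.π a ∈ S' → ∃ z, D.π z = 1 ∧ k * a = z * (a * k) := fun a ha =>
      ⟨k * a * (a * k)⁻¹, by rw [map_mul, map_inv, map_mul, map_mul, h _ hk _ ha, mul_inv_cancel], by group⟩
    obtain ⟨z, hz, e⟩ := h2 a ha
    obtain ⟨z', hz', e'⟩ := h2 b hb
    rw [Subgroup.mem_centralizer_singleton_iff, commutatorElement_def, eq_comm, ← mul_inv_eq_iff_eq_mul]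
    calc _ = (k * a * k⁻¹) * (k * b * k⁻¹) * (k * a * k⁻¹)⁻¹ * (k * b * k⁻¹)⁻¹ := by group
      _ = z * (a * z' * (b * a⁻¹ * z⁻¹)) * b⁻¹ * z'⁻¹ := by rw [e, e']; group
      _ = _ := by
        rw [D.central hz, ← D.central hz' a, mul_assoc z', mul_assoc z', mul_assoc z', D.central hz']
        group
  exact (Subgroup.mem_centralizer_singleton_iff.1 (h1 hg)).symm

theorem hat_conj {w : Ω} (h : ∀ s ∈ S, D.π w * s * (D.π w)⁻¹ ∈ S') {g : Ω} (hg : g ∈ D.hat S) :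
    w * g * w⁻¹ ∈ D.hat S' := by
  have h1 : ∀ a ∈ S.comap D.π, MulAut.conj w a ∈ S'.comap D.π := fun a ha => by
    rw [Subgroup.mem_comap, MulAut.conj_apply, map_mul, map_mul, map_inv]
    exact h _ ha
  have h2 : D.hat S ≤ (D.hat S').comap (MulAut.conj w).toMonoidHom := Subgroup.commutator_le.2 fun a ha b hb => by
    rw [Subgroup.mem_comap, map_commutatorElement]
    exact Subgroup.commutator_mem_commutator (h1 a ha) (h1 b hb)
  exact h2 hg

theorem hat_lnk (hT : S ≤ T) (hS : IsSimpleGroup S) (hn : ¬ IsMulCommutative S) : ∃ i j, D.lnk (D.hat S) i j := by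
  by_contra h
  push Not at h
  have h1 : ∀ a ∈ {t | ∃ s ∈ S, t = s * s}, ∀ b ∈ {t | ∃ s ∈ S, t = s * s}, a * b = b * a := by
    rintro _ ⟨a, ha, rfl⟩ _ ⟨b, hb, rfl⟩
    obtain ⟨a, ha', rfl⟩ := hat_surj (D := D) hT hS hn ha
    obtain ⟨b, hb', rfl⟩ := hat_surj (D := D) hT hS hn hb
    have h2 : a * a * (b * b) = b * b * (a * a) := D.inj (by
      rw [map_mul _ (a * a), map_mul _ (b * b)]
      exact (dg_sq_of_not_lnk h ha').comm (dg_sq_of_not_lnk h hb'))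
    simpa only [map_mul] using congrArg D.π h2
  rcases simple_cases (K := Subgroup.closure {t | ∃ s ∈ S, t = s * s}) hS
    ((Subgroup.closure_le _).2 (by rintro _ ⟨s, hs, rfl⟩; exact mul_mem hs hs)) (fun s hs k hk => by
      have : Subgroup.closure {t | ∃ s ∈ S, t = s * s} ≤
          (Subgroup.closure {t | ∃ s ∈ S, t = s * s}).comap (MulAut.conj s).toMonoidHom :=
        (Subgroup.closure_le _).2 (by
          rintro _ ⟨a, ha, rfl⟩
          exact Subgroup.subset_closure ⟨s * a * s⁻¹, mul_mem (mul_mem hs ha) (inv_mem hs), by simp [mul_assoc]⟩)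
      exact this hk) with e | e
  · have h2 : ∀ a ∈ S, a * a = 1 := fun a ha => by
      rw [← Subgroup.mem_bot, ← e]
      exact Subgroup.subset_closure ⟨a, ha, rfl⟩
    refine hn (comm_of fun a ha b hb => ?_)
    rw [← inv_eq_of_mul_eq_one_right (h2 _ (mul_mem ha hb)), _root_.mul_inv_rev, inv_eq_of_mul_eq_one_right (h2 a ha),
      inv_eq_of_mul_eq_one_right (h2 b hb)]
  · exact hn (e ▸ Subgroup.isMulCommutative_closure h1)

theorem isPGroup_A (D : Dat T Ω F) : IsPGroup 3 D.A := by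
  rintro ⟨_, c, rfl⟩
  exact ⟨1, Subtype.ext (D.y_cube c)⟩

variable [Finite G] (p : ℕ) [hp : Fact p.Prime] [hc : CharP F p]
include hp hc

theorem hat_red (hT : S ≤ T) (hS : IsSimpleGroup S) (hn : ¬ IsMulCommutative S) : D.Red (D.hat S) := by
  intro N h1 h2 h3 n hn'
  rcases simple_cases (K := N.map D.π) hS (by rintro _ ⟨a, ha, rfl⟩; exact hat_mem (h1 ha)) (by
    rintro s hs _ ⟨a, ha, rfl⟩
    obtain ⟨g, hg, rfl⟩ := hat_surj (D := D) hT hS hn hs
    exact ⟨_, h2 g hg a ha, by rw [map_mul, map_mul, map_inv]⟩) with e | e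
  · rw [← Subgroup.mem_bot, ← e]
    exact ⟨n, hn', rfl⟩
  · refine (not_isPGroup hS hn (p := p) fun s => ⟨9, Subtype.ext ?_⟩).elim
    obtain ⟨a, ha, h4⟩ : (s : G) ∈ N.map D.π := e.ge s.2
    rw [Subgroup.coe_pow, ← h4, ← map_pow, D.pow_eq_one_of_nil (h3 a ha), map_one, Subgroup.coe_one]

variable [PerfectField F] {H : Subgroup G} {𝓢 : Set (Subgroup G)}

/-- the group `3⁴` normalises every factor -/
theorem norm_of_mul (hA : ∀ c, D.y c ∈ H) (h : Mul T H 𝓢) (hS : S ∈ 𝓢) (c : W3) : cj (D.y c) S = S := by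
  obtain ⟨l, hl, h1, h2, h3⟩ : ∃ l : ℕ, l.Prime ∧ l ≠ p ∧ l ∣ Nat.card S ∧ (l = 3 ∨ ¬ 3 ∣ Nat.card S) := by
    by_cases h3 : 3 ∣ Nat.card S
    · refine ⟨3, Nat.prime_three, ?_, h3, Or.inl rfl⟩
      rintro rfl
      exact D.om.three (by exact_mod_cast CharP.cast_eq_zero F 3)
    · by_contra h4
      push Not at h4
      refine not_isPGroup (h.simple S hS) (h.nonab S hS) (p := p) (IsPGroup.of_card (n := _)
        (Nat.eq_prime_pow_of_unique_prime_dvd Nat.card_pos.ne' fun {l} hl hd => ?_))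
      by_contra e
      exact h3 (h4 l hl e hd).2
  have := Fact.mk hl
  obtain ⟨U, u1, u2, u3, u4, u5⟩ := exists_inv_ab (S := S) (N := D.A ⊓ Subgroup.normalizer (S : Set G))
    (D.isPGroup_A.to_inf_left) (fun n hn s hs => (Subgroup.mem_normalizer_iff.1 hn.2 s).1 hs) h2 h3
  let Sg : Set G := {t | ∃ c, ∃ u ∈ U, t = D.y c * u * (D.y c)⁻¹}
  have h4 : ∀ a ∈ Sg, ∀ b ∈ Sg, a * b = b * a := by
    rintro _ ⟨c, u, hu, rfl⟩ _ ⟨d, v, hv, rfl⟩
    by_cases e : cj (D.y c) S = cj (D.y d) S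
    · have h5 : (D.y d)⁻¹ * D.y c ∈ D.A ⊓ Subgroup.normalizer (S : Set G) :=
        ⟨D.A.mul_mem (D.A.inv_mem (D.y_mem_A d)) (D.y_mem_A c), mem_normalizer_of_cj_eq (by rw [cj_mul, e, cj_inv_cj])⟩
      have h6 := u4 _ (u5 _ h5 u hu) v hv
      calc _ = D.y d * ((D.y d)⁻¹ * D.y c * u * ((D.y d)⁻¹ * D.y c)⁻¹ * v) * (D.y d)⁻¹ := by group
        _ = _ := by rw [h6]; group
    · exact h.comm _ (h.perm _ (hA c) S hS) _ (h.perm _ (hA d) S hS) e _ (conj_mem_cj _ (u1 hu)) _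
        (conj_mem_cj _ (u1 hv))
  have h5 : ∀ a ∈ Subgroup.closure Sg, ∀ b ∈ Subgroup.closure Sg, a * b = b * a := fun a ha b hb =>
    congrArg Subtype.val ((Subgroup.isMulCommutative_closure h4).1.1 ⟨a, ha⟩ ⟨b, hb⟩)
  obtain ⟨⟨u, hu⟩, hu1⟩ := Subgroup.ne_bot_iff_exists_ne_one.1 u2
  obtain ⟨g, rfl⟩ := D.surj u (h.le S hS (u1 hu)).2
  have h6 := D.dg_of_ab (E := Subgroup.closure Sg) hl h1 (fun e he => by
      induction he using Subgroup.closure_induction with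
      | mem x hx =>
        obtain ⟨c, u, hu, rfl⟩ := hx
        rw [conj_pow, u3 u hu, mul_one, mul_inv_cancel]
      | one => exact one_pow _
      | mul x y hx hy a b => rw [Commute.mul_pow (h5 x hx y hy), a, b, mul_one]
      | inv x _ a => rw [inv_pow, a, inv_one]) h5 (fun c e he => by
      have : Subgroup.closure Sg ≤ (Subgroup.closure Sg).comap (MulAut.conj (D.y c)).toMonoidHom :=
        (Subgroup.closure_le _).2 (by
          rintro _ ⟨d, u, hu, rfl⟩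
          exact Subgroup.subset_closure ⟨c + d, u, hu, by simp [y_add, mul_assoc]⟩)
      exact this he) (g := g) (Subgroup.subset_closure ⟨0, _, hu, by simp [y_zero]⟩)
  by_contra e
  have h7 : D.π g ∈ cj (D.y c) S := by
    have h8 := congrArg D.π (D.comm_of_dg h6 c)
    rw [map_mul, map_mul] at h8
    rw [mem_cj, mul_assoc, y, h8, inv_mul_cancel_left]
    exact u1 hu
  have := h.simple S hS
  rcases (inferInstance : (Subgroup.center S).Normal).eq_bot_or_eq_top with e' | e'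
  · refine hu1 (Subtype.ext ?_)
    have h8 : (⟨_, u1 hu⟩ : S) ∈ Subgroup.center S := Subgroup.mem_center_iff.2 fun s =>
      Subtype.ext (h.comm _ (h.perm _ (hA c) S hS) S hS e _ h7 s s.2).symm
    rw [e'] at h8
    exact congrArg (fun t : S => (t : G)) (Subgroup.mem_bot.1 h8)
  · exact h.nonab S hS ⟨⟨fun a b => Subgroup.mem_center_iff.1 (e'.ge (Subgroup.mem_top b)) a⟩⟩

/-- **several simple factors** -/
theorem false_of_mul (hA : ∀ c, D.y c ∈ H) {w : Ω} (hw : D.ρ w = pm F (sp c3)) (hwH : D.π w ∈ H) (h : Mul T H 𝓢) :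
    False := by
  have hT : ∀ S ∈ 𝓢, S ≤ T := fun S hS => (h.le S hS).trans inf_le_right
  have h1 : ∀ S ∈ 𝓢, D.Nx (D.hat S) := fun S hS c g hg =>
    hat_conj (fun s hs => (norm_of_mul p hA h hS c).le (conj_mem_cj _ hs)) hg
  have h2 : ∀ S ∈ 𝓢, D.Red (D.hat S) := fun S hS => hat_red p (hT S hS) (h.simple S hS) (h.nonab S hS)
  have h3 : ∀ S ∈ 𝓢, ∀ S' ∈ 𝓢, S ≠ S' → ∀ i j k, D.lnk (D.hat S) i j → D.lnk (D.hat S') i k → k = j :=
    fun S hS S' hS' e i j k a b => (h1 S hS).lnk_eq (h2 S hS)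
      (fun k hk g hg => hat_comm (h.comm S' hS' S hS e.symm) (hat_mem hk) hg) a b
  let L : Fin 4 → Fin 4 → Prop := fun i j => ∃ S ∈ 𝓢, D.lnk (D.hat S) i j
  have l1 : ∀ i j, L i j → L j i := fun i j ⟨S, hS, a⟩ => ⟨S, hS, (h1 S hS).lnk_symm (h2 S hS) a⟩
  have l2 : ∀ i j, L i j → L (c3 i) (c3 j) := fun i j ⟨S, hS, a⟩ => ⟨_, h.perm _ hwH S hS,
    lnk_conj hw (fun g hg => hat_conj (fun s hs => conj_mem_cj _ hs) hg) a⟩
  have l3 : ∀ i j k, L i j → L i k → k = j := by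
    rintro i j k ⟨S, hS, a⟩ ⟨S', hS', b⟩
    by_cases e : S = S'
    swap
    · exact h3 S hS S' hS' e i j k a b
    subst e
    by_contra e
    obtain ⟨S', hS', e'⟩ := h.two.exists_ne S
    obtain ⟨l, l', c⟩ := hat_lnk (D := D) (hT S' hS') (h.simple S' hS') (h.nonab S' hS')
    have h4 : ∀ l l', D.lnk (D.hat S') l l' → l ≠ i := by
      rintro l l' c rfl
      exact e ((h3 S hS S' hS' e'.symm _ _ _ b c).symm.trans (h3 S hS S' hS' e'.symm _ _ _ a c))
    have h5 : ∀ l l', D.lnk (D.hat S') l l' → l ≠ j ∧ l ≠ k := fun l l' c => by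
      have c' := h4 _ _ ((h1 S' hS').lnk_symm (h2 S' hS') c)
      constructor <;> rintro rfl
      · exact c' (h3 S hS S' hS' e'.symm _ _ _ ((h1 S hS).lnk_symm (h2 S hS) a) c)
      · exact c' (h3 S hS S' hS' e'.symm _ _ _ ((h1 S hS).lnk_symm (h2 S hS) b) c)
    have c' := (h1 S' hS').lnk_symm (h2 S' hS') c
    have h6 : ∀ i j k l l' : Fin 4, i ≠ j → i ≠ k → k ≠ j → l ≠ i → l ≠ j ∧ l ≠ k → l' ≠ i → l' ≠ j ∧ l' ≠ k → l = l' := by
      decide
    exact c.1 (h6 i j k l l' a.1 b.1 e (h4 _ _ c) (h5 _ _ c) (h4 _ _ c') (h5 _ _ c'))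
  obtain ⟨S, hS, -⟩ := h.two
  obtain ⟨i, j, a⟩ := hat_lnk (D := D) (hT S hS) (h.simple S hS) (h.nonab S hS)
  have b0 : L i j := ⟨S, hS, a⟩
  have b1 := l2 _ _ b0
  have b2 := l2 _ _ b1
  have h7 : ∀ i j : Fin 4, i ≠ j → (c3 i = i ∧ c3 j ≠ j) ∨ (c3 j = j ∧ c3 i ≠ i) ∨ (c3 j = i ∧ c3 i ≠ j) ∨
      (c3 (c3 j) = i ∧ c3 (c3 i) ≠ j) := by decide
  rcases h7 i j a.1 with e | e | e | e
  · rw [e.1] at b1
    exact e.2 (l3 _ _ _ b0 b1)
  · rw [e.1] at b1
    exact e.2 (l3 _ _ _ (l1 _ _ b0) (l1 _ _ b1))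
  · rw [e.1] at b1
    exact e.2 (l3 _ _ _ b0 (l1 _ _ b1))
  · rw [e.1] at b2
    exact e.2 (l3 _ _ _ b0 (l1 _ _ b2))

end Dat

end Cfsg.Agent.TH.Cl.D4
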