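import Cfsg.Agent.TH.Cl.D4.Dat

/-!
# S3541, `PΩ₈⁺(q)`: groups normalised by `3⁴` (helper60)

The relation `rel Γ a b` on the weights: the weight vector `b` lies in the `Γ`-module generated by the weight vector `a`.
-/

set_option autoImplicit false

namespace Cfsg.Agent.TH.Cl.D4

open Matrix

/-- levels of a filtration -/
def Lv {F : Type} [Field F] (r : I8 → ℕ) (k : ℕ) (M : M8 F) : Prop := ∀ a b, M a b ≠ 0 → r a + k ≤ r b

section lv

variable {F : Type} [Field F] {r : I8 → ℕ} {k l : ℕ} {M N : M8 F}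

theorem Lv.mul (h : Lv r k M) (h' : Lv r l N) : Lv r (k + l) (M * N) := fun a b h0 => by
  rw [mul_apply] at h0
  obtain ⟨e, -, he⟩ := Finset.exists_ne_zero_of_sum_ne_zero h0
  have h1 := h _ _ (left_ne_zero_of_mul he)
  have h2 := h' _ _ (right_ne_zero_of_mul he)
  omega

theorem Lv.add (h : Lv r k M) (h' : Lv r k N) : Lv r k (M + N) := fun a b h0 => by
  by_cases e : M a b = 0
  · exact h' a b fun e' => h0 (by rw [Matrix.add_apply, e, e', add_zero])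
  · exact h a b e

theorem Lv.neg (h : Lv r k M) : Lv r k (-M) := fun a b h0 => h a b fun e => h0 (by rw [Matrix.neg_apply, e, neg_zero])

theorem Lv.pow (h : Lv r 1 M) (n : ℕ) : Lv r (n + 1) (M ^ (n + 1)) := by
  induction n with
  | zero => rwa [zero_add, pow_one]
  | succ n ih => rw [pow_succ]; exact ih.mul h

end lv

namespace Dat

variable {G : Type} [Group G] {T : Subgroup G} {Ω F : Type} [Group Ω] [Field F] (D : Dat T Ω F)

/-- the relation -/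
def rel (Γ : Subgroup Ω) (a b : I8) : Prop := ∃ g ∈ Γ, D.ρ g b a ≠ 0

/-- `Γ` is normalised by `3⁴` -/
def Nx (Γ : Subgroup Ω) : Prop := ∀ c, ∀ g ∈ Γ, D.x c * g * (D.x c)⁻¹ ∈ Γ

variable {D} {Γ : Subgroup Ω}

theorem Nx.cmp (h : D.Nx Γ) {a b : I8} (hab : a ≠ b) {g : Ω} (hg : g ∈ Γ) :
    cmp a b (D.ρ g) ∈ Submodule.span F (D.ρ '' Γ) :=
  (gr_span (by
    rintro c _ ⟨g, hg, rfl⟩
    exact ⟨_, h c g hg, by rw [← x_neg, map_mul, map_mul, ρ_x, ρ_x]⟩)).cmp D.om hab (Submodule.subset_span ⟨g, hg, rfl⟩)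

theorem rel_refl (a : I8) : D.rel Γ a a := ⟨1, one_mem _, by rw [map_one, one_apply_eq]; exact one_ne_zero⟩

theorem rel_dual {a b : I8} (h : D.rel Γ a b) : D.rel Γ b.swap a.swap := by
  obtain ⟨g, hg, h⟩ := h
  exact ⟨g⁻¹, inv_mem hg, by rwa [ρ_inv, adj, of_apply, Sum.swap_swap, Sum.swap_swap]⟩

theorem mul_cmp (M N : M8 F) (a b c : I8) : (M * cmp b a N) c a = M c b * N b a := by
  rw [mul_apply, Finset.sum_eq_single b, cmp_self]
  · intro d _ hd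
    by_contra h0
    rcases of_msk_ne (right_ne_zero_of_mul h0) with ⟨e, -⟩ | ⟨e, e'⟩
    · exact hd e
    · exact hd (by rw [e, e', Sum.swap_swap])
  · exact fun e => absurd (Finset.mem_univ _) e

theorem Nx.trans (h : D.Nx Γ) {a b c : I8} (h1 : D.rel Γ a b) (h2 : D.rel Γ b c) : D.rel Γ a c := by
  by_cases hab : b = a
  · rwa [← hab]
  obtain ⟨g, hg, h1⟩ := h1
  obtain ⟨g', hg', h2⟩ := h2
  by_contra h0
  have h3 : ∀ M ∈ Submodule.span F (D.ρ '' Γ), (D.ρ g' * M) c a = 0 := fun M hM => by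
    induction hM using Submodule.span_induction with
    | mem x hx =>
      obtain ⟨k, hk, rfl⟩ := hx
      by_contra e
      exact h0 ⟨g' * k, mul_mem hg' hk, by rwa [map_mul]⟩
    | zero => rw [mul_zero, Matrix.zero_apply]
    | add x y _ _ hx hy => rw [mul_add, Matrix.add_apply, hx, hy, add_zero]
    | smul t x _ hx => rw [mul_smul_comm, Matrix.smul_apply, hx, smul_zero]
  have h4 := h3 _ (h.cmp hab hg)
  rw [mul_cmp] at h4
  exact mul_ne_zero h2 h1 h4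

theorem Nx.sep (h : D.Nx Γ) {a : I8} (ha : ¬ (D.rel Γ a a.swap ∧ D.rel Γ a.swap a)) :
    ∃ c, (∀ d e, D.rel Γ d e → D.rel Γ e d → wt d c = wt e c) ∧ ∀ d, wt d c = 1 ↔ D.rel Γ a d ∧ D.rel Γ d a := by
  classical
  let P : I8 → Prop := fun d => D.rel Γ a d ∧ D.rel Γ d a
  have h1 : ∀ d, P d → ¬ P d.swap := fun d h1 h2 =>
    ha ⟨h.trans h2.1 (rel_dual h1.1), h.trans (rel_dual h1.2) h2.2⟩
  have h2 : ∀ d, wt d (fun i => if P (.inl i) then 1 else if P (.inr i) then -1 else 0) =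
      if P d then 1 else if P d.swap then -1 else 0 := fun d => by
    rcases d with i | i
    · rfl
    · change -(if P (.inl i) then 1 else if P (.inr i) then -1 else 0) =
        if P (.inr i) then 1 else if P (.inl i) then -1 else (0 : ZMod 3)
      by_cases e : P (.inl i)
      · rw [if_pos e, if_neg (show ¬ P (.inr i) from h1 _ e), if_pos e]
      · rw [if_neg e, if_neg e]
        split_ifs
        exacts [neg_neg _, neg_zero]
  have h3 : ∀ d e, D.rel Γ d e → D.rel Γ e d → (P d ↔ P e) := fun d e x y =>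
    ⟨fun z => ⟨h.trans z.1 x, h.trans y z.2⟩, fun z => ⟨h.trans z.1 y, h.trans x z.2⟩⟩
  refine ⟨fun i => if P (.inl i) then 1 else if P (.inr i) then -1 else 0, fun d e x y => ?_, fun d => ?_⟩
  · rw [h2, h2, if_congr (h3 d e x y) rfl rfl, if_congr (h3 _ _ (rel_dual y) (rel_dual x)) rfl rfl]
  · rw [h2]
    split_ifs with e1 e2
    exacts [iff_of_true rfl e1, iff_of_false (by decide) e1, iff_of_false (by decide) e1]

/-- no unipotent normal subgroup -/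
def Red (D : Dat T Ω F) (Γ : Subgroup Ω) : Prop := ∀ N : Subgroup Ω, N ≤ Γ → (∀ g ∈ Γ, ∀ n ∈ N, g * n * g⁻¹ ∈ N) →
  (∀ n ∈ N, (D.ρ n - 1) ^ 9 = 0) → ∀ n ∈ N, D.π n = 1

theorem Nx.symm (h : D.Nx Γ) (hR : D.Red Γ) {a b : I8} (hab : D.rel Γ a b) : D.rel Γ b a := by
  classical
  by_contra hba
  obtain ⟨c, h1, h2⟩ : ∃ c, (∀ d e, D.rel Γ d e → D.rel Γ e d → wt d c = wt e c) ∧ wt b c ≠ wt a c := by
    by_cases ha : D.rel Γ a a.swap ∧ D.rel Γ a.swap a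
    · by_cases hb : D.rel Γ b b.swap ∧ D.rel Γ b.swap b
      · exact absurd (h.trans (h.trans hb.1 (rel_dual hab)) ha.2) hba
      · obtain ⟨c, h1, h2⟩ := h.sep hb
        exact ⟨c, h1, fun e => hba ((h2 a).1 (e ▸ (h2 b).2 ⟨rel_refl b, rel_refl b⟩)).1⟩
    · obtain ⟨c, h1, h2⟩ := h.sep ha
      exact ⟨c, h1, fun e => hba ((h2 b).1 (e.trans ((h2 a).2 ⟨rel_refl a, rel_refl a⟩))).2⟩
  let r : I8 → ℕ := fun d => (Finset.univ.filter (D.rel Γ d)).card
  have r1 : ∀ d e, D.rel Γ d e → Finset.univ.filter (D.rel Γ e) ⊆ Finset.univ.filter (D.rel Γ d) := fun d e x f y =>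
    Finset.mem_filter.2 ⟨Finset.mem_univ _, h.trans x (Finset.mem_filter.1 y).2⟩
  have r2 : ∀ g ∈ Γ, Lv r 0 (D.ρ g) := fun g hg d e h0 => Finset.card_le_card (r1 e d ⟨g, hg, h0⟩)
  have r3 : ∀ d, r d ≤ 8 := fun d => (Finset.card_le_univ _).trans (by simp)
  let N : Subgroup Ω :=
    { carrier := {n | n ∈ Γ ∧ Lv r 1 (D.ρ n - 1)}
      one_mem' := ⟨one_mem _, fun d e h0 => absurd (by rw [map_one, sub_self, Matrix.zero_apply]) h0⟩
      mul_mem' := fun {m n} hm hn => ⟨mul_mem hm.1 hn.1, by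
        rw [map_mul, show D.ρ m * D.ρ n - 1 = D.ρ m * (D.ρ n - 1) + (D.ρ m - 1) by noncomm_ring]
        exact ((r2 m hm.1).mul hn.2).add hm.2⟩
      inv_mem' := fun {n} hn => ⟨inv_mem hn.1, by
        rw [show D.ρ n⁻¹ - 1 = -(D.ρ n⁻¹ * (D.ρ n - 1)) by
          rw [mul_sub, ← map_mul, inv_mul_cancel, map_one, mul_one, neg_sub]]
        exact ((r2 _ (inv_mem hn.1)).mul hn.2).neg⟩ }
  have h3 := hR N (fun _ hn => hn.1) (fun g hg n hn => ⟨mul_mem (mul_mem hg hn.1) (inv_mem hg), by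
      rw [show D.ρ (g * n * g⁻¹) - 1 = D.ρ g * (D.ρ n - 1) * D.ρ g⁻¹ by
        rw [mul_sub, sub_mul, mul_one, ← map_mul, ← map_mul, ← map_mul, mul_inv_cancel, map_one]]
      exact ((r2 g hg).mul hn.2).mul (r2 _ (inv_mem hg))⟩) fun n hn => by
    ext d e
    by_contra h0
    have := hn.2.pow 8 d e h0
    have := r3 e
    omega
  obtain ⟨g, hg, h0⟩ := hab
  have h4 : D.x c * g * (D.x c)⁻¹ * g⁻¹ ∈ N := ⟨mul_mem (h c g hg) (inv_mem hg), by
    rw [show D.ρ (D.x c * g * (D.x c)⁻¹ * g⁻¹) - 1 = (D.ρ (D.x c * g * (D.x c)⁻¹) - D.ρ g) * D.ρ g⁻¹ by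
      rw [sub_mul, ← map_mul, ← map_mul, mul_inv_cancel, map_one]]
    refine Lv.mul (k := 1) (l := 0) (fun d e h5 => ?_) (r2 _ (inv_mem hg))
    rw [← x_neg, map_mul, map_mul, ρ_x, ρ_x, Matrix.sub_apply, mul_dg, dg_mul'] at h5
    have h6 : D.rel Γ e d := ⟨g, hg, fun h6 => h5 (by rw [h6, mul_zero, zero_mul, sub_zero])⟩
    refine Finset.card_lt_card ⟨r1 e d h6, fun h7 => h5 ?_⟩
    rw [h1 e d h6 (Finset.mem_filter.1 (h7 (Finset.mem_filter.2 ⟨Finset.mem_univ _, rel_refl e⟩))).2 |>.symm, wt_neg,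
      mul_right_comm, mul_comm (D4.om _ _), D.om.om_neg_mul, one_mul, sub_self]⟩
  have h5 := h3 _ h4
  rw [map_mul, map_mul, map_mul, map_inv, map_inv, mul_inv_eq_one, mul_inv_eq_iff_eq_mul] at h5
  exact h2 (D.comm_iff.1 (D.comm3 (D.x_cube c) h5).symm b a h0)

/-- the elements which commute with `Γ` -/
theorem Nx.star (h : D.Nx Γ) {a b : I8} (h1 : D.rel Γ a b) (h2 : D.rel Γ b a) (hab : ix a ≠ ix b) {k : Ω}
    (hk : ∀ g ∈ Γ, k * g = g * k) {d : I8} (hd : D.ρ k d b ≠ 0) : d = b ∨ d = a.swap := by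
  obtain ⟨g, hg, h1⟩ := h1
  obtain ⟨g', hg', h2⟩ := h2
  have hne : a ≠ b := fun e => hab (congrArg ix e)
  have h3 : ∀ M ∈ Submodule.span F (D.ρ '' Γ), Commute (D.ρ k) M := fun M hM => by
    induction hM using Submodule.span_induction with
    | mem x hx =>
      obtain ⟨l, hl, rfl⟩ := hx
      exact Commute.map (hk l hl) D.ρ
    | zero => exact Commute.zero_right _
    | add x y _ _ hx hy => exact hx.add_right hy
    | smul t x _ hx => exact hx.smul_right t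
  have h4 := congrFun (congrFun ((h3 _ (h.cmp hne.symm hg)).mul_right (h3 _ (h.cmp hne hg'))).eq d) b
  rw [← mul_assoc, mul_cmp, mul_cmp, mul_assoc, mul_assoc, mul_apply] at h4
  obtain ⟨e, -, he⟩ := Finset.exists_ne_zero_of_sum_ne_zero (h4 ▸ mul_ne_zero hd (mul_ne_zero h1 h2))
  exact (of_msk_ne (left_ne_zero_of_mul he)).imp And.left And.left

/-- links between planes -/
def lnk (D : Dat T Ω F) (Γ : Subgroup Ω) (i j : Fin 4) : Prop := i ≠ j ∧ ∃ a b, ix a = i ∧ ix b = j ∧ D.rel Γ a b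

theorem Nx.lnk_symm (h : D.Nx Γ) (hR : D.Red Γ) {i j : Fin 4} (h1 : D.lnk Γ i j) : D.lnk Γ j i := by
  obtain ⟨h0, a, b, h2, h3, h4⟩ := h1
  exact ⟨h0.symm, b, a, h3, h2, h.symm hR h4⟩

theorem Nx.lnk_eq (h : D.Nx Γ) (hR : D.Red Γ) {Γ' : Subgroup Ω} (hc : ∀ k ∈ Γ', ∀ g ∈ Γ, k * g = g * k) {i j k : Fin 4}
    (h1 : D.lnk Γ i j) (h2 : D.lnk Γ' i k) : k = j := by
  obtain ⟨h0, a, b, rfl, rfl, h4⟩ := h1
  obtain ⟨h5, a', d, h6, rfl, g, hg, h7⟩ := h2
  rcases eq_or_of_ix h6 with rfl | rfl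
  · rcases h.star (h.symm hR h4) h4 h0.symm (hc g hg) h7 with rfl | rfl
    exacts [absurd rfl h5, ix_swap b]
  · rcases h.star (rel_dual h4) (rel_dual (h.symm hR h4)) (by rw [ix_swap, ix_swap]; exact h0.symm) (hc g hg) h7 with
      rfl | rfl
    exacts [absurd (ix_swap a).symm h5, by rw [Sum.swap_swap]]

theorem dg_sq_of_not_lnk (h : ∀ i j, ¬ D.lnk Γ i j) {g : Ω} (hg : g ∈ Γ) : Dg (D.ρ (g * g)) := by
  rw [map_mul]
  refine D.om.dg_of_comm fun i => Pl.sq D.om (fun a b h0 => ?_) (D.iso g)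
  rw [not_not.1 fun e => h _ _ ⟨e, b, a, rfl, rfl, g, hg, h0⟩]

theorem lnk_conj {Γ' : Subgroup Ω} {w : Ω} {s : Equiv.Perm (Fin 4)} (hw : D.ρ w = pm F (sp s))
    (h : ∀ g ∈ Γ, w * g * w⁻¹ ∈ Γ') {i j : Fin 4} (h1 : D.lnk Γ i j) : D.lnk Γ' (s i) (s j) := by
  obtain ⟨h0, a, b, rfl, rfl, g, hg, h4⟩ := h1
  refine ⟨s.injective.ne h0, sp s a, sp s b, ix_sp s a, ix_sp s b, _, h g hg, ?_⟩
  rwa [← mul_pm (D.ρ _), ← hw, ← map_mul, inv_mul_cancel_right, map_mul, hw, pm_mul]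

end Dat

end Cfsg.Agent.TH.Cl.D4
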