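import Cfsg.Agent.TH.Cl.D4.Mul

/-!
# S3541, `PΩ₈⁺(q)`: the point stabiliser is not the normaliser of `3⁴` (helper60)
-/

set_option autoImplicit false

namespace Cfsg.Agent.TH.Cl.D4

open Matrix

theorem conj_mem_cj_of {G : Type} [Group G] {H Z : Subgroup G} (h : ∀ a ∈ H, ∀ z ∈ Z, a * z * a⁻¹ ∈ Z) {g k z : G}
    (hk : k ∈ cj g H) (hz : z ∈ cj g Z) : k * z * k⁻¹ ∈ cj g Z := by
  have h1 := h _ (mem_cj.1 hk) _ (mem_cj.1 hz)
  rw [mem_cj]
  convert h1 using 1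
  group

/-- the four group -/
def kk : Fin 4 → Equiv.Perm (Fin 4) :=
  ![1, Equiv.swap 0 1 * Equiv.swap 2 3, Equiv.swap 0 2 * Equiv.swap 1 3, Equiv.swap 0 3 * Equiv.swap 1 2]

theorem kk_mul : ∀ k l, ∃ n, kk k * kk l = kk n := by decide

theorem kk_sq : ∀ k, kk k * kk k = 1 := by decide

theorem kk_trans : ∀ i j, ∃ k, kk k i = j := by decide

theorem kk_root : ∀ k, ∃ t, kk k = t * t := by decide +kernel

theorem smul_e3_comp (s : ZMod 3) (i : Fin 4) (t : Equiv.Perm (Fin 4)) : (s • e3 i) ∘ t.symm = s • e3 (t i) := by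
  funext j
  simp only [e3, Function.comp, Pi.smul_apply, Pi.single_apply, Equiv.symm_apply_eq]

theorem z3_sq : ∀ s : ZMod 3, s ≠ 0 → s * s = 1 := by decide

/-- the two halves -/
def blk (i : Fin 4) : Bool := decide (i < 2)

theorem exists_xor : ∀ f g : Fin 4 → Bool, (∀ i j, blk i ≠ blk j ↔ f i ≠ g j) →
    ∃ ε, ∀ i, f i = xor ε (blk i) ∧ g i = xor ε (blk i) := by decide +kernel

theorem comm_of_supp {F : Type} [Field F] {M N : M8 F} {P : I8 → Prop} (h1 : ∀ a b, (M - 1) a b ≠ 0 → P a ∧ P b)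
    (h2 : ∀ a b, (N - 1) a b ≠ 0 → ¬ P a ∧ ¬ P b) : M * N = N * M := by
  have h3 : (M - 1) * (N - 1) = 0 := by
    ext a b
    rw [mul_apply]
    refine Finset.sum_eq_zero fun e _ => ?_
    by_contra h0
    exact (h2 _ _ (right_ne_zero_of_mul h0)).1 (h1 _ _ (left_ne_zero_of_mul h0)).2
  have h4 : (N - 1) * (M - 1) = 0 := by
    ext a b
    rw [mul_apply]
    refine Finset.sum_eq_zero fun e _ => ?_
    by_contra h0
    exact (h2 _ _ (left_ne_zero_of_mul h0)).2 (h1 _ _ (right_ne_zero_of_mul h0)).1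
  rw [← sub_eq_zero, ← sub_self (0 : M8 F)]
  nth_rewrite 1 [← h3]
  rw [← h4]
  noncomm_ring

theorem gY_sub {F : Type} [Field F] (ω t : F) (a b : I8) (h : (gY ω t - 1) a b ≠ 0) : ix a < 2 ∧ ix b < 2 := by
  have h1 : ∀ a, ¬ ix a < 2 → gP t a = 0 ∧ gQ t a = 0 := fun a ha => by
    rcases a with i | i <;> fin_cases i <;> first | exact absurd (by decide) ha | exact ⟨rfl, rfl⟩
  constructor
  · by_contra ha
    exact h (by simp [gY, rot, one_apply, h1 a ha])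
  · by_contra hb
    exact h (by simp [gY, rot, one_apply, h1 b.swap (by rwa [ix_swap])])

namespace Dat

variable {G : Type} [Group G] {T : Subgroup G} {Ω F : Type} [Group Ω] [Field F] (D : Dat T Ω F)

theorem exists_kk (k : Fin 4) : ∃ g, D.ρ g = pm F (sp (kk k)) := by
  obtain ⟨t, ht⟩ := kk_root k
  rw [ht]
  exact D.exists_sp t

theorem conj_sp {g : Ω} {s : Equiv.Perm (Fin 4)} (hg : D.ρ g = pm F (sp s)) (c : W3) :
    D.π g * D.y c * (D.π g)⁻¹ = D.y (c ∘ s.symm) := D.conj_y (D.conj_pm hg fun a => wt_sp s a c)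

theorem conj_smul {k g : G} {c d : W3} (h : k * (g * D.y c * g⁻¹) * k⁻¹ = g * D.y d * g⁻¹) (s : ZMod 3) :
    k * (g * D.y (s • c) * g⁻¹) * k⁻¹ = g * D.y (s • d) * g⁻¹ := by
  rw [y_smul, y_smul, ← conj_pow, ← conj_pow, ← conj_pow, h]

theorem conj_smul' {k : G} {c d : W3} (h : k * D.y c * k⁻¹ = D.y d) (s : ZMod 3) :
    k * D.y (s • c) * k⁻¹ = D.y (s • d) := by
  rw [y_smul, y_smul, ← conj_pow, h]

/-- the unipotent element -/
theorem exists_u : ∃ (α β : F) (v : Ω), α * β = -1 ∧ D.ρ v = uY D.ω α β ∧ v ^ 3 = 1 := by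
  obtain ⟨α, β, h1, h2⟩ := D.neg
  obtain ⟨v, hv⟩ := D.ex3 ((hp_u h2).iso D.om) (D.rw.rot (rl_u h1)) ((hp_u h2).cube D.om)
  exact ⟨α, β, v, h2, hv, D.inj (by rw [map_pow, map_one, hv]; exact (hp_u h2).cube D.om)⟩

variable {D} {H : Subgroup G} {m : ℕ} [Finite G]

theorem mem_norm_A {k : G} (h : ∀ i, k * D.y (e3 i) * k⁻¹ ∈ D.A) : k ∈ Subgroup.normalizer (D.A : Set G) := by
  refine mem_normalizer_of_cj_eq (Red.cj_eq_of_le ?_)
  rintro _ ⟨_, ⟨c, rfl⟩, rfl⟩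
  exact D.mem_of_e3 (K := D.A.comap (MulAut.conj k).toMonoidHom) h c

omit [Finite G] in
theorem conj_e3 {k : G} (h : k ∈ Subgroup.normalizer (D.A : Set G)) (h0 : k ∈ D.G₀) (i : Fin 4) :
    ∃ j, ∃ s : ZMod 3, s ≠ 0 ∧ k * D.y (e3 i) * k⁻¹ = D.y (s • e3 j) := by
  obtain ⟨c, hc⟩ := (Subgroup.mem_normalizer_iff.1 h _).1 (D.y_mem_A (e3 i))
  obtain ⟨j, s, hs, rfl⟩ := D.y_X.1 (hc ▸ D.inv k h0 _ (D.y_e3 i))
  exact ⟨j, s, hs, hc⟩

theorem false_of_tor_two (c : LieCtx T H m 2) (hN : Subgroup.normalizer (D.A : Set G) = H) : False := by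
  obtain ⟨α, β, v, hαβ, hv, -⟩ := D.exists_u
  have hu : D.ρ (D.x (-e3 2) * v) = uU D.ω α β := by rw [map_mul, ρ_x, hv, uU]
  have h1 : D.x (-e3 2) * v * D.x (e3 3) = D.x (e3 3) * (D.x (-e3 2) * v) := D.comm_iff.2 fun a b h0 => by
    rw [hu, uU, dg_mul'] at h0
    rcases uY_ne _ _ _ (right_ne_zero_of_mul h0) with rfl | ⟨i, j, hi, hj, rfl, rfl⟩ | ⟨i, j, hi, hj, rfl, rfl⟩
    · rfl
    · rw [wt_e3_of_ne (a := .inl i) hi, wt_e3_of_ne (a := .inl j) hj]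
    · rw [wt_e3_of_ne (a := .inr i) hi, wt_e3_of_ne (a := .inr j) hj]
  generalize D.x (-e3 2) * v = u at hu h1
  let V : Subgroup Ω :=
    { carrier := {g | ∃ k, D.ρ g = pm F (sp (kk k))}
      one_mem' := ⟨0, by rw [map_one, ← pm_one, ← sp_one]; rfl⟩
      mul_mem' := by
        rintro a b ⟨k, hk⟩ ⟨l, hl⟩
        obtain ⟨n, hn⟩ := kk_mul k l
        exact ⟨n, by rw [map_mul, hk, hl, pm_mul_pm, sp_mul, hn]⟩
      inv_mem' := by
        rintro a ⟨k, hk⟩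
        refine ⟨k, ?_⟩
        rw [← hk, inv_eq_of_mul_eq_one_right (D.inj (by
          rw [map_mul, hk, pm_mul_pm, sp_mul, kk_sq, sp_one, pm_one, map_one]) : a * a = 1)] }
  have h2 : IsPGroup 2 (V.map D.π) := by
    rintro ⟨_, a, ⟨k, hk⟩, rfl⟩
    refine ⟨1, Subtype.ext ?_⟩
    rw [Subgroup.coe_pow, ← map_pow, pow_one, pow_two, (D.inj (by
      rw [map_mul, hk, pm_mul_pm, sp_mul, kk_sq, sp_one, pm_one, map_one]) : a * a = 1), map_one, Subgroup.coe_one]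
  have h3 : V.map D.π ≤ H ⊓ T := by
    rintro _ ⟨a, ⟨k, hk⟩, rfl⟩
    exact ⟨hN ▸ mem_norm_A fun i => ⟨_, D.conj_sp hk _⟩, D.mem a⟩
  have h4 : ∀ a ∈ H, ∀ x ∈ H ⊓ T, a * x * a⁻¹ ∈ H ⊓ T := fun a ha x hx =>
    ⟨H.mul_mem (H.mul_mem ha hx.1) (H.inv_mem ha), c.as.normal.conj_mem x hx.2 a⟩
  obtain ⟨b, hb, h5⟩ := c.half.uni c.not_dvd_d inf_le_left h4 le_rfl (fun a ha => h4 a ha.1) h2 h3 (D.π u)
  have h6 : ∀ a ∈ H, ∀ z ∈ D.A, a * z * a⁻¹ ∈ D.A := fun a ha z hz =>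
    (Subgroup.mem_normalizer_iff.1 (hN.ge ha) z).1 hz
  have h7 : D.y (e3 3) ∈ cj (D.π u) D.A := by
    have h8 := congrArg D.π h1
    rw [map_mul, map_mul] at h8
    rw [mem_cj, mul_assoc, y, ← h8, inv_mul_cancel_left]
    exact D.y_mem_A _
  have h8 : (D.π u)⁻¹ ∈ Subgroup.normalizer (D.A : Set G) := mem_norm_A fun i => by
    obtain ⟨l, s, hs, e⟩ := conj_e3 (hN.ge (inv_mem hb.1)) (D.le (inv_mem hb.2)) 3
    obtain ⟨l', s', -, e'⟩ := conj_e3 (hN.ge (inv_mem hb.1)) (D.le (inv_mem hb.2)) i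
    obtain ⟨k, rfl⟩ := kk_trans l l'
    obtain ⟨g, hg⟩ := D.exists_kk k
    have a1 := conj_mem_cj_of h6 (h5 (conj_mem_cj b ⟨g, ⟨k, hg⟩, rfl⟩)) h7
    have a2 : b * D.π g * b⁻¹ * D.y (e3 3) * (b * D.π g * b⁻¹)⁻¹ = b * D.y (s • e3 (kk k l)) * b⁻¹ := by
      rw [← smul_e3_comp, ← D.conj_sp hg, ← e]
      group
    have a3 : D.y (e3 i) = (b * D.y (s • e3 (kk k l)) * b⁻¹) ^ (s' * s).val := by
      rw [conj_pow, ← y_smul, smul_smul, mul_assoc s', z3_sq s hs, mul_one, ← e']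
      group
    rw [inv_inv, ← mem_cj, a3, ← a2]
    exact pow_mem a1 _
  obtain ⟨j, s, -, e⟩ := conj_e3 (inv_mem_iff.1 h8) (D.le (D.mem u)) 2
  have h9 := D.tw_iff.1 (D.of_conj_y e)
  have a0 : ∀ j (s : ZMod 3), wt (.inl 0) (s • e3 j) = wt (.inl 2) (e3 2) →
      wt (.inl 2) (s • e3 j) ≠ wt (.inl 2) (e3 2) := by decide
  exact a0 j s (h9 _ _ (hu ▸ (uU_entry D.om).1)) (h9 _ _ (hu ▸ (uU_entry D.om).2))

omit [Finite G] in
theorem exists_gen (D : Dat T Ω F) {t : F} (ht : 2 * t = 1) (hR : (t, t) ∈ D.R) :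
    ∃ g : Bool → Ω, g true * g false = g false * g true ∧
      (∀ ε c, (∀ i, blk i = ε → c i = 0) → g ε * D.x c = D.x c * g ε) ∧
      ∀ i c, g (blk i) * D.x (e3 i) * (g (blk i))⁻¹ * D.x c = D.x c * (g (blk i) * D.x (e3 i) * (g (blk i))⁻¹) →
        ∀ j, blk j = blk i → c j = 0 := by
  obtain ⟨v, hv⟩ := D.ex3 ((hp_g ht).iso D.om) (D.rw.rot (rl_g hR)) ((hp_g ht).cube D.om)
  obtain ⟨γ, hγ⟩ := D.exists_kk 2
  have h0 : ∀ c, γ * D.x c * γ⁻¹ = D.x (c ∘ (kk 2).symm) := fun c => D.conj_pm hγ fun a => wt_sp _ a c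
  have h1 : ∀ a b, (D.ρ v - 1) a b ≠ 0 → ix a < 2 ∧ ix b < 2 := by rw [hv]; exact gY_sub _ _
  have h2 : ∀ a b, (D.ρ (γ * v * γ⁻¹) - 1) a b ≠ 0 → ¬ ix a < 2 ∧ ¬ ix b < 2 := fun a b h => by
    obtain ⟨a, rfl⟩ := (sp (kk 2)).surjective a
    obtain ⟨b, rfl⟩ := (sp (kk 2)).surjective b
    rw [← mul_pm (_ - _), ← hγ, sub_mul, ← map_mul, inv_mul_cancel_right, map_mul, one_mul, ← mul_sub_one, hγ,
      pm_mul] at h
    have h3 : ∀ i : Fin 4, i < 2 → ¬ kk 2 i < 2 := by decide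
    rw [ix_sp, ix_sp]
    exact ⟨h3 _ (h1 a b h).1, h3 _ (h1 a b h).2⟩
  have h3 : ∀ c : W3, (∀ i, blk i = true → c i = 0) → v * D.x c = D.x c * v := fun c hc =>
    D.comm_iff.2 fun a b h => by
      by_cases e : a = b
      · rw [e]
      have h4 : ∀ a, ix a < 2 → wt a c = 0 := fun a ha => by
        rcases a with i | i
        · exact hc i (decide_eq_true ha)
        · exact neg_eq_zero.2 (hc i (decide_eq_true ha))
      have h5 := h1 a b (by rwa [Matrix.sub_apply, one_apply_ne e, sub_zero])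
      rw [h4 a h5.1, h4 b h5.2]
  have h4 : ∀ i c, blk i = true → v * D.x (e3 i) * v⁻¹ * D.x c = D.x c * (v * D.x (e3 i) * v⁻¹) →
      ∀ j, blk j = true → c j = 0 := fun i c hi h j hj => by
    have h5 := D.comm_iff.1 h (.inl j) (.inr j) (by
      rw [map_mul, map_mul, ρ_inv, ρ_x, hv]
      exact gY_entry D.om ht i j (of_decide_eq_true hi) (of_decide_eq_true hj))
    have h6 : ∀ k : ZMod 3, k = -k → k = 0 := by decide
    exact h6 _ h5
  have h5 : ∀ i, blk (kk 2 i) = !blk i := by decide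
  have h6 : (kk 2).symm = kk 2 := by decide
  have h7 : ∀ i, kk 2 (kk 2 i) = i := by decide
  have h8 : ∀ c : W3, D.x c = γ * D.x (c ∘ kk 2) * γ⁻¹ := fun c => by
    rw [h0, h6]
    exact congrArg D.x (funext fun i => (congrArg c (h7 i)).symm)
  refine ⟨fun ε => bif ε then v else γ * v * γ⁻¹, D.inj (by
    rw [map_mul, map_mul]; exact comm_of_supp h1 h2), fun ε c hc => ?_, fun i c h j hj => ?_⟩
  · cases ε
    · have a1 := h3 (c ∘ kk 2) fun i hi => hc _ (by rw [h5, hi]; rfl)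
      rw [h8 c]
      change γ * v * γ⁻¹ * _ = _ * (γ * v * γ⁻¹)
      calc _ = γ * (v * D.x (c ∘ kk 2)) * γ⁻¹ := by group
        _ = _ := by rw [a1]; group
    · exact h3 c hc
  · cases hi : blk i
    · rw [hi, h8 c, h8 (e3 i)] at h
      change γ * v * γ⁻¹ * _ * (γ * v * γ⁻¹)⁻¹ * _ = _ * (γ * v * γ⁻¹ * _ * (γ * v * γ⁻¹)⁻¹) at h
      have a1 : e3 i ∘ kk 2 = e3 (kk 2 i) := by
        rw [← one_smul (ZMod 3) (e3 i), ← one_smul (ZMod 3) (e3 (kk 2 i)), ← smul_e3_comp, h6]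
      rw [← h7 j]
      refine h4 (kk 2 i) (c ∘ kk 2) (by rw [h5, hi]; rfl) ?_ (kk 2 j) (by rw [h5, hj, hi]; rfl)
      rw [← a1, ← mul_right_inj γ, ← mul_left_inj γ⁻¹]
      calc _ = γ * v * γ⁻¹ * (γ * D.x (e3 i ∘ kk 2) * γ⁻¹) * (γ * v * γ⁻¹)⁻¹ * (γ * D.x (c ∘ kk 2) * γ⁻¹) := by group
        _ = _ := by rw [h]; group
    · rw [hi] at h hj
      exact h4 i c hi h j hj

theorem false_of_tor_odd {p : ℕ} [CharP F p] (hp : Odd p) (hH : Half H m)
    (hN : Subgroup.normalizer (D.A : Set G) = H) : False := by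
  obtain ⟨n, hn⟩ := hp
  obtain ⟨γ, g1, g2, g3⟩ := D.exists_gen (t := ((n + 1 : ℕ) : F)) (by
    have := CharP.cast_eq_zero F p
    rw [hn] at this
    push_cast at this ⊢
    linear_combination this) (natCast_mem D.R (n + 1))
  let g : G := D.π (γ true * γ false)
  have e0 : ∀ (s : ZMod 3) i ε, blk i ≠ ε → D.π (γ ε) * D.y (s • e3 i) * (D.π (γ ε))⁻¹ = D.y (s • e3 i) :=
    fun s i ε h => D.conj_y (mul_inv_eq_iff_eq_mul.2 (g2 ε _ fun j hj => by
      rw [Pi.smul_apply, e3, Pi.single_eq_of_ne (by rintro rfl; exact h hj), smul_zero]))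
  have e1 : ∀ (s : ZMod 3) i, g * D.y (s • e3 i) * g⁻¹ = D.π (γ (blk i)) * D.y (s • e3 i) * (D.π (γ (blk i)))⁻¹ := by
    intro s i
    cases hi : blk i
    · nth_rewrite 2 [← e0 s i true (by rw [hi]; decide)]
      rw [show g = D.π (γ false) * D.π (γ true) by rw [← map_mul, ← g1]]
      group
    · nth_rewrite 2 [← e0 s i false (by rw [hi]; decide)]
      simp only [g, map_mul]
      group
  have e2 : ∀ i c, D.y c * (g * D.y (e3 i) * g⁻¹) = g * D.y (e3 i) * g⁻¹ * D.y c → ∀ j, blk j = blk i → c j = 0 := by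
    intro i c h
    rw [← one_smul (ZMod 3) (e3 i), e1, one_smul] at h
    refine g3 i c (D.comm3 (D.x_cube c) ?_).symm
    rw [map_mul, map_mul, map_inv]
    exact h
  have e3' : ∀ (s s' : ZMod 3) i j, s ≠ 0 → s' ≠ 0 →
      (blk i ≠ blk j ↔ Commute (D.y (s • e3 i)) (g * D.y (s' • e3 j) * g⁻¹)) := fun s s' i j hs hs' => by
    refine ⟨fun h => ?_, fun h h' => hs ?_⟩
    · rw [e1, ← e0 s i (blk j) h]
      exact (Commute.map (D.y_comm _ _) (MulAut.conj (D.π (γ (blk j)))) :)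
    · have h1 := h.pow_right s'.val
      rw [conj_pow, ← y_smul, smul_smul, z3_sq s' hs', one_smul] at h1
      simpa [e3] using e2 j _ h1 i h'
  let St : G → Bool → Prop := fun k ε =>
    (∀ i, ∃ j, ∃ s : ZMod 3, s ≠ 0 ∧ blk j = xor ε (blk i) ∧ k * D.y (e3 i) * k⁻¹ = D.y (s • e3 j)) ∧
      ∀ i, ∃ j, ∃ s : ZMod 3, s ≠ 0 ∧ blk j = xor ε (blk i) ∧
        k * (g * D.y (e3 i) * g⁻¹) * k⁻¹ = g * D.y (s • e3 j) * g⁻¹
  have s1 : ∀ k ∈ H ⊓ cj g H ⊓ D.G₀, ∃ ε, St k ε := fun k hk => by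
    choose σ s hs a using conj_e3 (hN.ge hk.1.1) hk.2
    have hg : g ∈ D.G₀ := D.le (D.mem _)
    choose τ s' hs' a' using conj_e3 (hN.ge (mem_cj.1 hk.1.2)) (mul_mem (mul_mem (inv_mem hg) hk.2) hg)
    have a'' : ∀ i, k * (g * D.y (e3 i) * g⁻¹) * k⁻¹ = g * D.y (s' i • e3 (τ i)) * g⁻¹ := fun i => by
      rw [← a']; group
    obtain ⟨ε, hε⟩ := exists_xor (fun i => blk (σ i)) (fun i => blk (τ i)) fun i j => by
      rw [e3' 1 1 i j one_ne_zero one_ne_zero, e3' _ _ _ _ (hs i) (hs' j), ← a, ← a'', one_smul, one_smul]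
      exact (Commute.conj_iff k).symm
    exact ⟨ε, fun i => ⟨_, _, hs i, (hε i).1, a i⟩, fun i => ⟨_, _, hs' i, (hε i).2, a'' i⟩⟩
  have s2 : ∀ k k', St k true → St k' true → St (k * k') false := fun k k' h h' => by
    constructor <;> intro i
    · obtain ⟨j, s, hs, b1, b2⟩ := h'.1 i
      obtain ⟨l, s', hs', b3, b4⟩ := h.1 j
      refine ⟨l, s * s', mul_ne_zero hs hs', by rw [b3, b1]; simp, ?_⟩
      rw [← smul_smul, ← D.conj_smul' b4, ← b2]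
      group
    · obtain ⟨j, s, hs, b1, b2⟩ := h'.2 i
      obtain ⟨l, s', hs', b3, b4⟩ := h.2 j
      refine ⟨l, s * s', mul_ne_zero hs hs', by rw [b3, b1]; simp, ?_⟩
      rw [← smul_smul, ← D.conj_smul b4, ← b2]
      group
  have s3 : ∀ k, St k false → ∀ ε, k ∈ cj (D.π (γ ε)) H := fun k h ε => by
    rw [mem_cj, ← hN]
    refine mem_norm_A fun i => ?_
    by_cases e : blk i = ε
    · obtain ⟨j, s, -, b1, b2⟩ := h.2 i
      rw [Bool.false_xor] at b1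
      rw [← one_smul (ZMod 3) (e3 i), e1, e1, b1, e, one_smul] at b2
      refine ⟨s • e3 j, ?_⟩
      calc _ = (D.π (γ ε))⁻¹ * (k * (D.π (γ ε) * D.y (e3 i) * (D.π (γ ε))⁻¹) * k⁻¹) * D.π (γ ε) := by group
        _ = _ := by rw [b2]; group
    · obtain ⟨j, s, -, b1, b2⟩ := h.1 i
      rw [Bool.false_xor] at b1
      rw [← one_smul (ZMod 3) (e3 i), ← e0 1 i ε e, ← e0 s j ε (b1 ▸ e), one_smul] at b2
      refine ⟨s • e3 j, ?_⟩
      calc _ = (D.π (γ ε))⁻¹ * (k * (D.π (γ ε) * D.y (e3 i) * (D.π (γ ε))⁻¹) * k⁻¹) * D.π (γ ε) := by group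
        _ = _ := by rw [b2]; group
  have n0 : ∀ z ∈ H, z * D.y (e3 0) * z⁻¹ ≠ g * D.y (e3 0) * g⁻¹ := fun z hz e => by
    obtain ⟨c, hc⟩ := (Subgroup.mem_normalizer_iff.1 (hN.ge hz) _).1 (D.y_mem_A (e3 0))
    refine (e3' 1 1 0 0 one_ne_zero one_ne_zero).2 ?_ rfl
    rw [one_smul, ← e, hc]
    exact D.y_comm _ _
  have n1 : g ∉ H := fun h => n0 g h rfl
  have n2 : D.π (γ true) ∉ H := fun h => n0 _ h (by rw [← one_smul (ZMod 3) (e3 0), e1]; rfl)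
  have hA : ∀ c, D.y c ∈ H := fun c => hN.le (Subgroup.le_normalizer (D.y_mem_A c))
  let L : Subgroup G := H ⊓ cj (D.π (γ true)) H ⊓ cj (D.π (γ false)) H
  have c1 : m ≤ 3 * Nat.card ↥(H ⊓ cj g H ⊓ D.G₀) := by
    rw [← hH.card_inf g n1, ← (D.G₀.subgroupOf (H ⊓ cj g H)).index_mul_card, ← Subgroup.inf_subgroupOf_left,
      Nat.card_congr (Subgroup.subgroupOfEquivOfLe inf_le_left).toEquiv, Subgroup.inf_subgroupOf_left]
    refine Nat.mul_le_mul_right _ (le_trans ?_ D.idx)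
    rw [← D.G₀.relIndex_top_right]
    exact Subgroup.relIndex_le_of_le_right le_top (by
      rw [D.G₀.relIndex_top_right]; exact Subgroup.index_ne_zero_of_finite)
  have c2 : Nat.card ↥(H ⊓ cj g H ⊓ D.G₀) ≤ 2 * Nat.card L := by
    refine (Red.card_le_two_mul (A := L) fun a ha b hb ha' hb' => ?_).trans
      (Nat.mul_le_mul_left _ (Subgroup.card_le_of_le inf_le_right))
    obtain ⟨ε, h1⟩ := s1 a ha
    obtain ⟨ε', h2⟩ := s1 b hb
    cases ε
    · exact absurd ⟨⟨ha.1.1, s3 a h1 _⟩, s3 a h1 _⟩ ha'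
    cases ε'
    · exact absurd ⟨⟨hb.1.1, s3 b h2 _⟩, s3 b h2 _⟩ hb'
    exact ⟨⟨mul_mem ha.1.1 hb.1.1, s3 _ (s2 a b h1 h2) _⟩, s3 _ (s2 a b h1 h2) _⟩
  have c3 : ∀ c : W3, c 0 = 0 → c 1 = 0 → (D.π (γ true))⁻¹ * D.y c * D.π (γ true) = D.y c := fun c h0 h1 => by
    have := congrArg D.π (g2 true c fun i hi => by fin_cases i <;> first | assumption | exact absurd hi (by decide))
    rw [map_mul, map_mul] at this
    rw [mul_assoc, y, ← this, inv_mul_cancel_left]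
  have c4 : ∀ c : W3, c 0 = 0 → c 1 = 0 → D.y c ∈ cj (D.π (γ false)) H → c = 0 := fun c h0 h1 h => by
    obtain ⟨ε, h2, h3⟩ := s1 (D.y c) ⟨⟨hA c, mem_cj.2 <| by
      rw [show g⁻¹ * D.y c * g = (D.π (γ false))⁻¹ * ((D.π (γ true))⁻¹ * D.y c * D.π (γ true)) * D.π (γ false) by
        simp only [g, map_mul]; group, c3 c h0 h1]
      exact mem_cj.1 h⟩, D.le (D.y_mem c)⟩
    obtain rfl : ε = false := by
      obtain ⟨j, s, hs, b1, b2⟩ := h2 0
      rw [y_comm, mul_inv_cancel_right] at b2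
      have b0 : ∀ ε j (s : ZMod 3), blk j = (ε ^^ blk 0) → e3 0 = s • e3 j → ε = false := by decide
      exact b0 ε j s b1 (D.y_inj b2)
    obtain ⟨j, s, -, b1, b2⟩ := h3 2
    obtain ⟨j', s', -, b3, b4⟩ := h3 3
    have b5 : j = 2 ∧ s = 1 := by
      have b6 : g * D.y (e3 2) * g⁻¹ = D.y c * (D.y c * (D.y c * (g * D.y (e3 2) * g⁻¹) * (D.y c)⁻¹) * (D.y c)⁻¹) *
          (D.y c)⁻¹ := by
        calc _ = D.y c ^ 3 * (g * D.y (e3 2) * g⁻¹) * (D.y c ^ 3)⁻¹ := by rw [y_cube]; group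
          _ = _ := by rw [pow_three]; group
      have b7 : ∀ j : Fin 4, blk j = (false ^^ blk 2) → j = 2 ∨ j = 3 := by decide
      rcases b7 j b1 with rfl | rfl
      · rw [b2, D.conj_smul b2, D.conj_smul (D.conj_smul b2 s), mul_left_inj, mul_right_inj] at b6
        have b0 : ∀ s : ZMod 3, e3 2 = s • s • s • e3 2 → s = 1 := by decide
        exact ⟨rfl, b0 s (D.y_inj b6)⟩
      · exfalso
        rcases b7 j' b3 with rfl | rfl
        · rw [b2, D.conj_smul b4, D.conj_smul (D.conj_smul b2 s'), mul_left_inj, mul_right_inj] at b6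
          have := congrFun (D.y_inj b6) 2
          simp [e3] at this
        · rw [b2, D.conj_smul b4, D.conj_smul (D.conj_smul b4 s'), mul_left_inj, mul_right_inj] at b6
          have := congrFun (D.y_inj b6) 2
          simp [e3] at this
    obtain ⟨rfl, rfl⟩ := b5
    rw [one_smul, mul_inv_eq_iff_eq_mul] at b2
    funext i
    fin_cases i
    exacts [h0, h1, e2 2 c b2 2 rfl, e2 2 c b2 3 rfl]
  have c5 : 9 * Nat.card L ≤ m := by
    let f : (ZMod 3 × ZMod 3) × L → ↥(H ⊓ cj (D.π (γ true)) H) := fun z =>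
      ⟨D.y ![0, 0, z.1.1, z.1.2] * z.2, mul_mem ⟨hA _, mem_cj.2 (by rw [c3 _ rfl rfl]; exact hA _)⟩ z.2.2.1⟩
    have hf : Function.Injective f := by
      rintro ⟨⟨a, b⟩, l⟩ ⟨⟨a', b'⟩, l'⟩ h
      have h1 : D.y ![0, 0, a, b] * l = D.y ![0, 0, a', b'] * l' := congrArg Subtype.val h
      have h2 := c4 (-![0, 0, a', b'] + ![0, 0, a, b]) (by simp) (by simp) (by
        rw [y_add, y_neg, show (D.y ![0, 0, a', b'])⁻¹ * D.y ![0, 0, a, b] = l' * (l : G)⁻¹ by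
          rw [inv_mul_eq_iff_eq_mul, ← mul_assoc, ← h1, mul_inv_cancel_right]]
        exact mul_mem l'.2.2 (inv_mem l.2.2))
      rw [neg_add_eq_zero] at h2
      rw [h2, mul_right_inj] at h1
      obtain rfl : a' = a := congrFun h2 2
      obtain rfl : b' = b := congrFun h2 3
      rw [Subtype.ext h1]
    have := Nat.card_le_card_of_injective f hf
    rwa [hH.card_inf _ n2, Nat.card_prod, Nat.card_prod, Nat.card_zmod] at this
  have c6 : 0 < Nat.card L := Nat.card_pos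
  omega

theorem false_of_tor {p : ℕ} [CharP F p] (c : LieCtx T H m p) (hN : Subgroup.normalizer (D.A : Set G) = H) : False := by
  rcases c.prime.eq_two_or_odd' with rfl | h
  · exact false_of_tor_two c hN
  · exact false_of_tor_odd h c.half hN

end Dat

end Cfsg.Agent.TH.Cl.D4
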